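import Cfsg.Agent.Lib.Sp4Odd.FrameFive
import Cfsg.Agent.Lib.GeomClasses.FrameSign

/-!
Frames of five orthogonal vectors: descending to three frame vectors and climbing back to all unit vectors.
-/

set_option autoImplicit false
set_option linter.unusedSectionVars false

namespace CfsgLib.GeomClasses.Frame

open QuadraticMap CfsgLib.Orth CfsgLib.GeomClasses

variable {ι : Type} [Fintype ι] [DecidableEq ι] {F : Type*} [Field F] [Fintype F]
  {q : QuadraticForm F (ι → F)} {n : ℕ} {b : Fin n → ι → F} {c : F}

variable (h : IsFrame q b c) {X : Subgroup (O q)} (hX : HasGens b X) (p : ℕ) [Fact p.Prime] [CharP F p]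
  (hcard : Nat.card F = p) (hn : n = 5)
include h hX hcard hn

/-- A root on five frame vectors gives one on three, for the first alternative of `five_pair`. -/
theorem IsFrame.five_good (h7 : 7 ≤ p) {f : ι → F} (hf : Phi q b c X f) (hc : (supp q b c f).card = 5)
    {i j l m : Fin n} (hi : i ∈ supp q b c f) (hj : j ∈ supp q b c f) (hij : i ≠ j)
    (hne : co q b c i f ^ 2 + co q b c j f ^ 2 ≠ 1)
    (hq : ¬ (4 * co q b c i f ^ 2 = 1 ∧ 4 * co q b c j f ^ 2 = 1))
    (hl : l ∈ ((supp q b c f).erase i).erase j) (hm : m ∈ ((supp q b c f).erase i).erase j)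
    (hlm : co q b c l f ^ 2 ≠ co q b c m f ^ 2) : ∃ g, Phi q b c X g ∧ (supp q b c g).card = 3 := by
  classical
  obtain ⟨hui, huj, huo, hfu, hN'⟩ := h.off_pair hij f
  set u := f - co q b c i f • b i - co q b c j f • b j with hu
  have hN : ip q c u u ≠ 0 := by rw [hN' hf.1]; exact sub_ne_zero.2 hne.symm
  simp only [Finset.mem_erase] at hl hm
  rcases h.plane_cases hX p hcard (by omega) hij hui huj hN (f := ![co q b c i f, co q b c j f, 1])
      (by have h1 := hf; rw [hfu] at h1; simpa using h1) (by simp [mem_supp.1 hi]) (by simp [mem_supp.1 hj])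
      (by simp) with hall | ⟨t, ht⟩ | hquart
  · obtain ⟨x, z, hx, hz, hxz⟩ := exists_off_axes p h7 hN
    have hg := hall ![x, 0, z] (by simp [SphereThree.ip3]; linear_combination hxz)
    simp only [Matrix.cons_val_zero, Matrix.cons_val_one, Matrix.cons_val] at hg
    obtain ⟨hsupp, hco⟩ := h.supp_axis hij hx hz hi hj
    refine h.four_three hX p hcard hn h7 hg (by rw [hsupp, Finset.card_erase_of_mem hj, hc]) ?_
    by_contra hall4
    push Not at hall4
    have el := hall4 l (by rw [hsupp]; exact Finset.mem_erase.2 ⟨hl.1, hl.2.2⟩)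
    have em := hall4 m (by rw [hsupp]; exact Finset.mem_erase.2 ⟨hm.1, hm.2.2⟩)
    rw [hco l hl.2.1 hl.1] at el
    rw [hco m hm.2.1 hm.1] at em
    refine hlm (mul_left_cancel₀ (show 4 * z ^ 2 ≠ 0 from mul_ne_zero ?_ (pow_ne_zero 2 hz))
      (by linear_combination el - em))
    rw [show (4 : F) = 2 * 2 by norm_num]; exact mul_ne_zero h.two h.two
  · refine ⟨_, ht, ?_⟩
    have ht0 : t ≠ 0 := fun e => by
      have := (h.unit_iff _).1 ht.1
      rw [e, zero_smul] at this
      simp [ip] at this
    have hsu : supp q b c (t • u) = ((supp q b c f).erase i).erase j := by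
      ext y
      simp only [Finset.mem_erase, mem_supp, co_smul]
      rcases eq_or_ne y i with rfl | y1
      · simp [hui]
      rcases eq_or_ne y j with rfl | y2
      · simp [huj]
      · simp [y1, y2, huo y y1 y2, ht0]
    rw [hsu, Finset.card_erase_of_mem (Finset.mem_erase.2 ⟨hij.symm, hj⟩), Finset.card_erase_of_mem hi, hc]
  · exact absurd (by simpa using hquart) hq

/-- Five equal squares. -/
theorem IsFrame.five_equal (h7 : 7 ≤ p) {f : ι → F} (hf : Phi q b c X f) (hc : (supp q b c f).card = 5)
    (he : ∀ i ∈ supp q b c f, 5 * co q b c i f ^ 2 = 1) : ∃ g, Phi q b c X g ∧ (supp q b c g).card = 3 := by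
  classical
  have h3 : (3 : F) ≠ 0 := by exact_mod_cast small_ne (F := F) p (m := 3) (by norm_num) (by omega)
  have h5 : (5 : F) ≠ 0 := by exact_mod_cast small_ne (F := F) p (m := 5) (by norm_num) (by omega)
  obtain ⟨K, hK, hKc⟩ := Finset.exists_subset_card_eq (show 2 ≤ (supp q b c f).card by omega)
  obtain ⟨g, hg, hco⟩ := h.flip_refl hX hf K
  have hsK : 5 * ∑ l ∈ K, co q b c l f ^ 2 = 2 := by
    rw [Finset.mul_sum, Finset.sum_congr rfl fun l hl => he l (hK hl), Finset.sum_const, hKc]; simp
  have hout : ∀ y, y ∉ supp q b c f → co q b c y g = 0 := fun y hy => by rw [hco, notMem_supp.1 hy, mul_zero]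
  have hsq : ∀ y ∈ supp q b c f, 125 * co q b c y g ^ 2 = if y ∈ K then 49 else 9 := by
    intro y hy
    rw [hco]
    split_ifs
    · linear_combination (20 * ∑ l ∈ K, co q b c l f ^ 2 - 15) ^ 2 * he y hy +
        4 * (20 * ∑ l ∈ K, co q b c l f ^ 2 - 22) * hsK
    · linear_combination (20 * ∑ l ∈ K, co q b c l f ^ 2 - 5) ^ 2 * he y hy +
        4 * (20 * ∑ l ∈ K, co q b c l f ^ 2 - 2) * hsK
  by_cases hp7 : (7 : F) = 0
  · refine ⟨g, hg, ?_⟩
    rw [show supp q b c g = supp q b c f \ K from ?_, Finset.card_sdiff_of_subset hK, hc, hKc]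
    ext y
    rw [Finset.mem_sdiff, mem_supp]
    by_cases hy : y ∈ supp q b c f
    · have e := hsq y hy
      split_ifs at e with hyK
      · simp only [hy, hyK, not_true, and_false, iff_false, not_not]
        refine pow_eq_zero_iff two_ne_zero |>.1 ?_
        refine (mul_eq_zero.1 (show (125 : F) * co q b c y g ^ 2 = 0 by linear_combination e + 7 * hp7)).resolve_left ?_
        rw [show (125 : F) = 5 ^ 3 by norm_num]; exact pow_ne_zero 3 h5
      · simp only [hy, hyK, not_false_eq_true, and_self, iff_true]
        intro e0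
        rw [e0] at e
        exact h3 (pow_eq_zero_iff two_ne_zero |>.1 (show (3 : F) ^ 2 = 0 by linear_combination -e))
    · simp [hy, hout y hy]
  have h125 : (125 : F) ≠ 0 := by rw [show (125 : F) = 5 ^ 3 by norm_num]; exact pow_ne_zero 3 h5
  have hS : supp q b c g = supp q b c f := by
    ext y
    by_cases hy : y ∈ supp q b c f
    · refine iff_of_true (mem_supp.2 fun e0 => ?_) hy
      have e := hsq y hy
      rw [e0] at e
      split_ifs at e
      · exact hp7 (pow_eq_zero_iff two_ne_zero |>.1 (show (7 : F) ^ 2 = 0 by linear_combination -e))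
      · exact h3 (pow_eq_zero_iff two_ne_zero |>.1 (show (3 : F) ^ 2 = 0 by linear_combination -e))
    · exact iff_of_false (fun e => mem_supp.1 e (hout y hy)) hy
  have hdiff : (49 : F) ≠ 9 := fun e => h5 (by
    refine (mul_eq_zero.1 (show (2 : F) ^ 3 * 5 = 0 by linear_combination e)).resolve_left (pow_ne_zero 3 h.two))
  rcases five_pair (hS ▸ hc : (supp q b c g).card = 5) (fun y => co q b c y g ^ 2) h.two h3 h5
      (fun y hy => pow_ne_zero 2 (mem_supp.1 hy)) (h.sum_sq_supp hg.1) with
    ⟨i, hi, j, hj, hij, hne, hq, l, hl, m, hm, hlm⟩ | ⟨k, hk, hhalf⟩ | hall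
  · exact h.five_good hX p hcard hn h7 hg (hS ▸ hc) hi hj hij hne hq hl hm hlm
  · exfalso
    obtain ⟨y, hy, hyk⟩ := Finset.exists_mem_ne (show 1 < K.card by omega) k
    obtain ⟨z, hz, hzk⟩ := Finset.exists_mem_ne (show 1 < (supp q b c f \ K).card by
      rw [Finset.card_sdiff_of_subset hK]; omega) k
    rw [Finset.mem_sdiff] at hz
    have e1 := hhalf y (Finset.mem_erase.2 ⟨hyk, by rw [hS]; exact hK hy⟩)
    have e2 := hhalf z (Finset.mem_erase.2 ⟨hzk, by rw [hS]; exact hz.1⟩)
    have f1 := hsq y (hK hy)
    have f2 := hsq z hz.1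
    rw [if_pos hy] at f1
    rw [if_neg hz.2] at f2
    exact hdiff (mul_left_cancel₀ h.two (by linear_combination 125 * e1 - 2 * f1 - 125 * e2 + 2 * f2))
  · exfalso
    obtain ⟨y, hy⟩ := Finset.card_pos.1 (show 0 < K.card by omega)
    obtain ⟨z, hz⟩ := Finset.card_pos.1 (show 0 < (supp q b c f \ K).card by
      rw [Finset.card_sdiff_of_subset hK]; omega)
    rw [Finset.mem_sdiff] at hz
    have e1 := hall y (by rw [hS]; exact hK hy)
    have e2 := hall z (by rw [hS]; exact hz.1)
    have f1 := hsq y (hK hy)
    have f2 := hsq z hz.1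
    rw [if_pos hy] at f1
    rw [if_neg hz.2] at f2
    exact hdiff (mul_left_cancel₀ h5 (by linear_combination 125 * e1 - 5 * f1 - 125 * e2 + 5 * f2))

/-- Five nonzero coordinates give three. -/
theorem IsFrame.five_three (h7 : 7 ≤ p) {f : ι → F} (hf : Phi q b c X f) (hc : (supp q b c f).card = 5) :
    ∃ g, Phi q b c X g ∧ (supp q b c g).card = 3 := by
  classical
  have h3 : (3 : F) ≠ 0 := by exact_mod_cast small_ne (F := F) p (m := 3) (by norm_num) (by omega)
  have h5 : (5 : F) ≠ 0 := by exact_mod_cast small_ne (F := F) p (m := 5) (by norm_num) (by omega)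
  rcases five_pair hc (fun y => co q b c y f ^ 2) h.two h3 h5
      (fun y hy => pow_ne_zero 2 (mem_supp.1 hy)) (h.sum_sq_supp hf.1) with
    ⟨i, hi, j, hj, hij, hne, hq, l, hl, m, hm, hlm⟩ | ⟨k, hk, hhalf⟩ | hall
  · exact h.five_good hX p hcard hn h7 hf hc hi hj hij hne hq hl hm hlm
  swap
  · exact h.five_equal hX p hcard hn h7 hf hc hall
  have hsk : co q b c k f ^ 2 = -1 := by
    have hsum := h.sum_sq_supp hf.1
    rw [← Finset.add_sum_erase _ _ hk] at hsum
    have : 2 * ∑ x ∈ (supp q b c f).erase k, co q b c x f ^ 2 = 4 := by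
      rw [Finset.mul_sum, Finset.sum_congr rfl hhalf, Finset.sum_const, Finset.card_erase_of_mem hk, hc]; simp
    exact mul_left_cancel₀ h.two (by linear_combination 2 * hsum - this)
  have hp7 : (7 : F) ≠ 0 := fun e => by
    have : p = 7 := (Nat.prime_dvd_prime_iff_eq Fact.out (by norm_num)).1
      ((CharP.cast_eq_zero_iff F p 7).1 (by exact_mod_cast e))
    subst this
    rcases sq_seven hcard e (mem_supp.1 hk) with e' | e' | e' <;> rw [e'] at hsk
    · exact h.two (by linear_combination hsk)
    · exact h3 (by linear_combination hsk)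
    · exact h5 (by linear_combination hsk)
  obtain ⟨g, hg, hco⟩ := h.flip_refl hX hf {k}
  simp only [Finset.sum_singleton, Finset.mem_singleton, hsk] at hco
  have hout : ∀ y, y ∉ supp q b c f → co q b c y g = 0 := fun y hy => by rw [hco, notMem_supp.1 hy, mul_zero]
  have gk : co q b c k g ^ 2 = -49 := by rw [hco, if_pos rfl]; linear_combination 49 * hsk
  have go : ∀ y ∈ (supp q b c f).erase k, 2 * co q b c y g ^ 2 = 25 := fun y hy => by
    rw [hco, if_neg (Finset.mem_erase.1 hy).1]; linear_combination 25 * hhalf y hy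
  have hS : supp q b c g = supp q b c f := by
    ext y
    by_cases hy : y ∈ supp q b c f
    · refine iff_of_true (mem_supp.2 fun e0 => ?_) hy
      rcases eq_or_ne y k with rfl | hyk
      · rw [e0] at gk
        exact hp7 (pow_eq_zero_iff two_ne_zero |>.1 (show (7 : F) ^ 2 = 0 by linear_combination gk))
      · have e := go y (Finset.mem_erase.2 ⟨hyk, hy⟩)
        rw [e0] at e
        exact h5 (pow_eq_zero_iff two_ne_zero |>.1 (show (5 : F) ^ 2 = 0 by linear_combination -e))
    · exact iff_of_false (fun e => mem_supp.1 e (hout y hy)) hy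
  rcases five_pair (hS ▸ hc : (supp q b c g).card = 5) (fun y => co q b c y g ^ 2) h.two h3 h5
      (fun y hy => pow_ne_zero 2 (mem_supp.1 hy)) (h.sum_sq_supp hg.1) with
    ⟨i, hi, j, hj, hij, hne, hq, l, hl, m, hm, hlm⟩ | ⟨k', hk', hhalf'⟩ | hall'
  · exact h.five_good hX p hcard hn h7 hg (hS ▸ hc) hi hj hij hne hq hl hm hlm
  · exfalso
    obtain ⟨y, hy, hyk⟩ := Finset.exists_mem_ne
      (show 1 < ((supp q b c f).erase k).card by rw [Finset.card_erase_of_mem hk]; omega) k'
    have e := hhalf' y (Finset.mem_erase.2 ⟨hyk, by rw [hS]; exact Finset.mem_of_mem_erase hy⟩)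
    have e24 : (2 : F) ^ 3 * 3 = 0 := by linear_combination e - go y hy
    exact h3 ((mul_eq_zero.1 e24).resolve_left (pow_ne_zero 3 h.two))
  · exact h.five_equal hX p hcard hn h7 hg (hS ▸ hc) hall'

/-- Four quarters give three nonzero coordinates. -/
theorem IsFrame.quarter_three (h5 : 5 ≤ p) {f : ι → F} (hf : Phi q b c X f) (hc : (supp q b c f).card = 4)
    (hq : ∀ i ∈ supp q b c f, 4 * co q b c i f ^ 2 = 1) : ∃ g, Phi q b c X g ∧ (supp q b c g).card = 3 := by
  classical
  obtain ⟨m, hm⟩ := exists_outside (S := supp q b c f) (by omega)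
  obtain ⟨k, a, e, d, hka, hke, hkd, hae, had, hed, hS⟩ := Finset.card_eq_four.1 hc
  have hmem : ∀ y ∈ ({k, a, e, d} : Finset (Fin n)), y ≠ m ∧ y ∈ supp q b c f := fun y hy =>
    ⟨fun e' => hm (by rw [← e', hS]; exact hy), by rw [hS]; exact hy⟩
  obtain ⟨hkm, hks⟩ := hmem k (by simp)
  obtain ⟨ham, has⟩ := hmem a (by simp)
  obtain ⟨hem, hes⟩ := hmem e (by simp)
  obtain ⟨hdm, hds⟩ := hmem d (by simp)
  have hfm : co q b c m f = 0 := notMem_supp.1 hm
  have h1 : Phi q b c X (app (h.perm (Equiv.swap m k)) f) := by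
    refine h.phi_of_sq hX (h.phi_even hX hf (by omega) (Equiv.swap m k * Equiv.swap a e) (by
      rw [map_mul, Equiv.Perm.sign_swap hkm.symm, Equiv.Perm.sign_swap hae]; simp)) fun y => ?_
    rw [h.co_perm, h.co_perm, Equiv.Perm.mul_def, Equiv.symm_trans_apply, Equiv.symm_swap, Equiv.symm_swap]
    rcases eq_or_ne (Equiv.swap m k y) a with y1 | y1
    · rw [y1, Equiv.swap_apply_left]; exact mul_left_cancel₀ (show (4 : F) ≠ 0 by
        rw [show (4 : F) = 2 * 2 by norm_num]; exact mul_ne_zero h.two h.two) ((hq a has).trans (hq e hes).symm)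
    rcases eq_or_ne (Equiv.swap m k y) e with y2 | y2
    · rw [y2, Equiv.swap_apply_right]; exact mul_left_cancel₀ (show (4 : F) ≠ 0 by
        rw [show (4 : F) = 2 * 2 by norm_num]; exact mul_ne_zero h.two h.two) ((hq e hes).trans (hq a has).symm)
    · rw [Equiv.swap_apply_of_ne_of_ne y1 y2]
  have h2 := h.phi_flip hX h1 {d}
  set f' := app (h.sgn {d}) (app (h.perm (Equiv.swap m k)) f) with hf'
  have hco' : ∀ y, co q b c y f' =
      if y = d then -co q b c (Equiv.swap m k y) f else co q b c (Equiv.swap m k y) f := fun y => by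
    simp only [hf', h.co_sgn, h.co_perm, Equiv.symm_swap, Finset.mem_singleton]
  have hip : 4 * ip q c f' f = 1 := by
    rw [ip_comm, h.ip_eq_sum_of (s := {k, a, e, d}) (fun y hy => notMem_supp.1 (by rw [hS]; exact hy)) f',
      Finset.sum_insert (by simp [hka, hke, hkd]), Finset.sum_insert (by simp [hae, had]), Finset.sum_pair hed,
      hco', hco', hco', hco', if_neg hkd, if_neg had, if_neg hed, if_pos rfl, Equiv.swap_apply_right,
      Equiv.swap_apply_of_ne_of_ne ham hka.symm, Equiv.swap_apply_of_ne_of_ne hem hke.symm,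
      Equiv.swap_apply_of_ne_of_ne hdm hkd.symm, hfm]
    linear_combination hq a has + hq e hes - hq d hds
  have hg := h.phi_refl hf h2
  set g := app (refl q f) f'
  have gco : ∀ y, co q b c y g = co q b c y f' - 2 * ip q c f' f * co q b c y f := fun y => h.co_refl_unit hf.1 f' y
  have gk : 16 * co q b c k g ^ 2 = 1 := by
    rw [gco, hco', if_neg hkd, Equiv.swap_apply_right, hfm]
    linear_combination hq k hks + 4 * co q b c k f ^ 2 * (4 * ip q c f' f + 1) * hip
  have gsame : ∀ y, y = a ∨ y = e → 16 * co q b c y g ^ 2 = 1 := by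
    intro y hy
    have hy' : y ∈ supp q b c f ∧ y ≠ d ∧ y ≠ m ∧ y ≠ k := by
      rcases hy with rfl | rfl
      exacts [⟨has, had, ham, hka.symm⟩, ⟨hes, hed, hem, hke.symm⟩]
    rw [gco, hco', if_neg hy'.2.1, Equiv.swap_apply_of_ne_of_ne hy'.2.2.1 hy'.2.2.2]
    linear_combination hq y hy'.1 + 4 * co q b c y f ^ 2 * (4 * ip q c f' f - 3) * hip
  have gd : 16 * co q b c d g ^ 2 = 9 := by
    rw [gco, hco', if_pos rfl, Equiv.swap_apply_of_ne_of_ne hdm hkd.symm]
    linear_combination 9 * hq d hds + 4 * co q b c d f ^ 2 * (4 * ip q c f' f + 5) * hip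
  have gm : 16 * co q b c m g ^ 2 = 4 := by
    rw [gco, hco', if_neg hdm.symm, Equiv.swap_apply_left, hfm]
    linear_combination 4 * hq k hks
  have h3 : (3 : F) ≠ 0 := by exact_mod_cast small_ne (F := F) p (m := 3) (by norm_num) (by omega)
  have h4 : (4 : F) ≠ 0 := by rw [show (4 : F) = 2 * 2 by norm_num]; exact mul_ne_zero h.two h.two
  have hz : ∀ (y : Fin n) (r : F), r ≠ 0 → 16 * co q b c y g ^ 2 = r → y ∈ supp q b c g := fun y r hr e' =>
    mem_supp.2 fun e0 => hr (by rw [e0] at e'; linear_combination -e')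
  have h9 : (9 : F) ≠ 0 := by rw [show (9 : F) = 3 * 3 by norm_num]; exact mul_ne_zero h3 h3
  have hsub : ({a, d, m} : Finset (Fin n)) ⊆ supp q b c g ∧ ({k, a, e} : Finset (Fin n)) ⊆ supp q b c g ∧
      ({a, e} : Finset (Fin n)) ⊆ supp q b c g := by
    have mk := hz k 1 one_ne_zero gk
    have ma := hz a 1 one_ne_zero (gsame a (Or.inl rfl))
    have me := hz e 1 one_ne_zero (gsame e (Or.inr rfl))
    have md := hz d 9 h9 gd
    have mm := hz m 4 h4 gm
    refine ⟨?_, ?_, ?_⟩ <;> intro y hy <;> simp only [Finset.mem_insert, Finset.mem_singleton] at hy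
    · rcases hy with rfl | rfl | rfl <;> assumption
    · rcases hy with rfl | rfl | rfl <;> assumption
    · rcases hy with rfl | rfl <;> assumption
  by_cases hp5 : p = 5
  · subst hp5
    have f5 : (5 : F) = 0 := by exact_mod_cast CharP.cast_eq_zero F 5
    obtain ⟨g', hg', hs', -⟩ := h.flip_keep hX hg (K := {a, d, m}) (mul_left_cancel₀ h4 (by
      rw [Finset.sum_insert (by simp [had, ham]), Finset.sum_pair hdm]
      linear_combination gsame a (Or.inl rfl) + gd + gm + 2 * f5))
    exact ⟨g', hg', by rw [hs', Finset.inter_eq_right.2 hsub.1,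
      Finset.card_insert_of_notMem (by simp [had, ham]), Finset.card_pair hdm]⟩
  by_cases hp7 : p = 7
  · subst hp7
    have f7 : (7 : F) = 0 := by exact_mod_cast CharP.cast_eq_zero F 7
    obtain ⟨g', hg', hs', -⟩ := h.flip_keep hX hg (K := {a, e, d}) (mul_left_cancel₀ h4 (by
      rw [Finset.sum_insert (by simp [hae, had]), Finset.sum_pair hed]
      linear_combination gsame a (Or.inl rfl) + gsame e (Or.inr rfl) + gd + f7))
    refine ⟨g', hg', ?_⟩
    rw [hs', Finset.inter_eq_right.2 ?_, Finset.card_insert_of_notMem (by simp [hae, had]), Finset.card_pair hed]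
    intro y hy
    simp only [Finset.mem_insert, Finset.mem_singleton] at hy
    rcases hy with rfl | rfl | rfl
    exacts [hsub.2.2 (by simp), hsub.2.2 (by simp), hsub.1 (by simp)]
  have h7' : 7 ≤ p := by
    have := (Fact.out : p.Prime).eq_one_or_self_of_dvd 2
    by_contra
    interval_cases p <;> simp_all
  refine h.five_three hX p hcard hn h7' hg (le_antisymm ((Finset.card_le_univ _).trans (by simp [hn])) ?_)
  refine le_trans ?_ (Finset.card_le_card (s := insert m (insert d {k, a, e})) ?_)
  · rw [Finset.card_insert_of_notMem (by simp [hdm.symm, hkm.symm, ham.symm, hem.symm]),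
      Finset.card_insert_of_notMem (by simp [hkd.symm, had.symm, hed.symm]),
      Finset.card_insert_of_notMem (by simp [hka, hke]), Finset.card_pair hae]
  · intro y hy
    simp only [Finset.mem_insert, Finset.mem_singleton] at hy
    rcases hy with rfl | rfl | rfl | rfl | rfl
    exacts [hsub.1 (by simp), hsub.1 (by simp), hsub.2.1 (by simp), hsub.2.1 (by simp), hsub.2.1 (by simp)]

/-- A root on at least three frame vectors gives one on exactly three. -/
theorem IsFrame.to_three (h5 : 5 ≤ p) {f : ι → F} (hf : Phi q b c X f) (hc : 3 ≤ (supp q b c f).card) :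
    ∃ g, Phi q b c X g ∧ (supp q b c g).card = 3 := by
  classical
  set S := supp q b c f with hS
  set s := fun i => co q b c i f ^ 2 with hs
  have hle : S.card ≤ 5 := (Finset.card_le_univ _).trans (by simp [hn])
  have hsum : ∑ i ∈ S, s i = 1 := h.sum_sq_supp hf.1
  rcases Nat.lt_or_ge S.card 4 with h3' | h4'
  · exact ⟨f, hf, by rw [← hS]; omega⟩
  by_cases hp5 : p = 5
  · subst hp5
    have f5 : (5 : F) = 0 := by exact_mod_cast CharP.cast_eq_zero F 5
    set P := S.filter fun i => s i = 1 with hP
    have hM : ∀ i ∈ S \ P, s i = -1 := fun i hi => by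
      simp only [Finset.mem_sdiff, hP, Finset.mem_filter, not_and] at hi
      exact (sq_five hcard (mem_supp.1 hi.1)).resolve_left (hi.2 hi.1)
    have hPS : P ⊆ S := Finset.filter_subset _ _
    have hcount : (P.card : F) - ((S \ P).card : F) = 1 := by
      rw [← Finset.sum_sdiff hPS, Finset.sum_congr rfl hM, Finset.sum_congr rfl fun i hi => (Finset.mem_filter.1 hi).2,
        Finset.sum_const, Finset.sum_const] at hsum
      simp at hsum
      linear_combination hsum
    have hcs := Finset.card_sdiff_add_card_eq_card hPS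
    have hdvd : 5 ∣ P.card + 4 * (S \ P).card + 4 := (CharP.cast_eq_zero_iff F 5 _).1 (by
      push_cast; linear_combination hcount + ((S \ P).card + 1 : F) * f5)
    rcases Nat.lt_or_ge S.card 5 with h45 | h55
    · refine h.quarter_three hX 5 hcard hn (le_refl 5) hf (by rw [← hS]; omega) fun i hi => ?_
      have : i ∈ S \ P := by
        have : P.card = 0 := by
          obtain ⟨r, hr⟩ := hdvd
          have : r ≤ 5 := by omega
          interval_cases r <;> omega
        rw [Finset.card_eq_zero.1 this]; simpa using hi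
      have e := hM i this
      simp only [hs] at e
      linear_combination 4 * e - f5
    · have hM2 : (S \ P).card = 2 := by
        obtain ⟨r, hr⟩ := hdvd
        have : r ≤ 5 := by omega
        interval_cases r <;> omega
      obtain ⟨x, hx⟩ := Finset.card_pos.1 (show 0 < P.card by omega)
      have hx' := (Finset.mem_filter.1 hx).2
      have hxnot : x ∉ S \ P := fun e => (Finset.mem_sdiff.1 e).2 hx
      obtain ⟨g, hg, hgs, -⟩ := h.flip_keep hX hf (K := insert x (S \ P)) (by
        rw [Finset.sum_insert hxnot, Finset.sum_congr rfl hM, Finset.sum_const, hM2,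
          show co q b c x f ^ 2 = 1 from hx']
        simp
        linear_combination -f5)
      refine ⟨g, hg, ?_⟩
      rw [hgs, ← hS, Finset.inter_eq_right.2 (Finset.insert_subset (hPS hx) Finset.sdiff_subset),
        Finset.card_insert_of_notMem hxnot]
      omega
  have h7 : 7 ≤ p := by
    have := (Fact.out : p.Prime).eq_one_or_self_of_dvd 2
    by_contra
    interval_cases p <;> simp_all
  rcases Nat.lt_or_ge S.card 5 with h45 | h55
  · by_cases hq : ∀ i ∈ S, 4 * s i = 1
    · exact h.quarter_three hX p hcard hn h5 hf (by rw [← hS]; omega) hq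
    · push Not at hq
      exact h.four_three hX p hcard hn h7 hf (by rw [← hS]; omega) hq
  · exact h.five_three hX p hcard hn h7 hf (by rw [← hS]; omega)

/-- One root on three frame vectors gives all of the unit vectors on three. -/
theorem IsFrame.three_all (h5 : 5 ≤ p) {g : ι → F} (hg : Phi q b c X g) (hc : (supp q b c g).card = 3) :
    ∀ v, q v = c → (supp q b c v).card ≤ 3 → Phi q b c X v := by
  classical
  refine h.phi_transport hX (by omega) hc fun v hv hsub => ?_
  obtain ⟨i, hi, hiq⟩ : ∃ i ∈ supp q b c g, 4 * co q b c i g ^ 2 ≠ 1 := by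
    by_contra hall
    push Not at hall
    have h1 := congrArg (fun x : F => 4 * x) (h.sum_sq_supp hg.1)
    simp only [mul_one, Finset.mul_sum] at h1
    rw [Finset.sum_congr rfl hall, Finset.sum_const, hc, nsmul_eq_mul, mul_one] at h1
    push_cast at h1
    exact one_ne_zero (α := F) (by linear_combination -h1)
  obtain ⟨j, l, hjl, he⟩ := Finset.card_eq_two.1
    (show ((supp q b c g).erase i).card = 2 by rw [Finset.card_erase_of_mem hi, hc])
  have hj : j ∈ (supp q b c g).erase i := by rw [he]; simp
  have hl : l ∈ (supp q b c g).erase i := by rw [he]; simp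
  obtain ⟨hji, hjs⟩ := Finset.mem_erase.1 hj
  obtain ⟨hli, hls⟩ := Finset.mem_erase.1 hl
  have hS : supp q b c g = {i, j, l} := by rw [← Finset.insert_erase hi, he]
  set u := co q b c l g • b l with hu
  have huu : ip q c u u = co q b c l g ^ 2 := by
    rw [hu, ip_smul_left, ip_smul_right, h.ip_b, if_pos rfl]; ring
  have hgl : co q b c l g ≠ 0 := mem_supp.1 hls
  have hgvec : g = co q b c i g • b i + co q b c j g • b j + (1 : F) • u := by
    refine h.ext_co fun m => ?_
    rw [co_add, co_add, co_smul, co_smul, co_smul, hu, co_smul, h.co_b, h.co_b, h.co_b]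
    rcases eq_or_ne m i with rfl | h1
    · simp [hji, hli]
    rcases eq_or_ne m j with rfl | h2
    · simp [Ne.symm hji, Ne.symm hjl]
    rcases eq_or_ne m l with rfl | h3
    · simp [Ne.symm hli, hjl]
    · simp [Ne.symm h1, Ne.symm h2, Ne.symm h3]
      exact notMem_supp.1 (by rw [hS]; simp [h1, h2, h3])
  have hgf : Phi q b c X (co q b c i g • b i + co q b c j g • b j + (1 : F) • u) := by rw [← hgvec]; exact hg
  have hus : (supp q b c u).card ≤ 1 := (Finset.card_le_card (t := {l}) fun m hm => by
    rw [mem_supp, hu, co_smul, h.co_b] at hm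
    by_contra hml
    rw [Finset.mem_singleton] at hml
    exact hm (by rw [if_neg (Ne.symm hml), mul_zero])).trans (Finset.card_singleton l).le
  have := h.plane_full hX p hcard (by omega) (Ne.symm hji) (u := u)
    (by rw [hu, co_smul, h.co_b_ne hli, mul_zero]) (by rw [hu, co_smul, h.co_b_ne (Ne.symm hjl), mul_zero])
    (by rw [huu]; exact pow_ne_zero 2 hgl) (by omega)
    (f := ![co q b c i g, co q b c j g, 1]) (by simpa using hgf) (by simp)
    (Or.inl (mem_supp.1 hi)) (by simp [mem_supp.1 hjs]) (by simp [mem_supp.1 hi]) (by simp [hiq])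
    ![co q b c i v, co q b c j v, co q b c l v / co q b c l g] (by
      have h1 := (h.unit_iff v).1 hv
      rw [h.ip_eq_sum_of (s := {i, j, l}) (fun m hm => notMem_supp.1 fun e => hm (hS ▸ hsub e)) v,
        Finset.sum_insert (by simp [Ne.symm hji, Ne.symm hli]), Finset.sum_pair hjl] at h1
      simp [SphereThree.ip3, huu]
      field_simp
      linear_combination h1)
  convert this using 1
  refine h.ext_co fun m => ?_
  simp only [Matrix.cons_val_zero, Matrix.cons_val_one, Matrix.cons_val]
  rw [co_add, co_add, co_smul, co_smul, co_smul, hu, co_smul, h.co_b, h.co_b, h.co_b]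
  rcases eq_or_ne m i with rfl | h1
  · simp [hji, hli]
  rcases eq_or_ne m j with rfl | h2
  · simp [Ne.symm hji, Ne.symm hjl]
  rcases eq_or_ne m l with rfl | h3
  · simp [Ne.symm hli, hjl, hgl]
  · simp [Ne.symm h1, Ne.symm h2, Ne.symm h3]
    exact notMem_supp.1 fun e => by have := hsub e; rw [hS] at this; simp [h1, h2, h3] at this

/-- Four equal squares over seven elements. -/
theorem IsFrame.seven_four (h7 : (7 : F) = 0) (h3 : ∀ v, q v = c → (supp q b c v).card ≤ 3 → Phi q b c X v)
    {v : ι → F} (hc : (supp q b c v).card = 4) (hall : ∀ i ∈ supp q b c v, co q b c i v ^ 2 = 2) :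
    Phi q b c X v := by
  classical
  obtain ⟨i, j, l, m, hij, hil, him, hjl, hjm, hlm, hS⟩ := Finset.card_eq_four.1 hc
  set g : ι → F := (2 : F) • b i + (3 : F) • b j + (-3 : F) • b l with hg
  set e : ι → F := (-2 : F) • b j + (3 : F) • b l + (4 : F) • b m with he
  have gco : ∀ x, co q b c x g =
      (if i = x then 2 else 0) + (if j = x then 3 else 0) + (if l = x then -3 else 0) := fun x => by
    rw [hg, co_add, co_add, co_smul, co_smul, co_smul, h.co_b, h.co_b, h.co_b]; split_ifs <;> ring
  have eco : ∀ x, co q b c x e =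
      (if j = x then -2 else 0) + (if l = x then 3 else 0) + (if m = x then 4 else 0) := fun x => by
    rw [he, co_add, co_add, co_smul, co_smul, co_smul, h.co_b, h.co_b, h.co_b]; split_ifs <;> ring
  have gout : ∀ x ∉ ({i, j, l} : Finset (Fin n)), co q b c x g = 0 := fun x hx => by
    simp only [Finset.mem_insert, Finset.mem_singleton, not_or] at hx
    rw [gco, if_neg (Ne.symm hx.1), if_neg (Ne.symm hx.2.1), if_neg (Ne.symm hx.2.2)]; ring
  have eout : ∀ x ∉ ({j, l, m} : Finset (Fin n)), co q b c x e = 0 := fun x hx => by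
    simp only [Finset.mem_insert, Finset.mem_singleton, not_or] at hx
    rw [eco, if_neg (Ne.symm hx.1), if_neg (Ne.symm hx.2.1), if_neg (Ne.symm hx.2.2)]; ring
  have hgq : q g = c := by
    rw [h.unit_iff, h.ip_eq_sum_of gout g, Finset.sum_insert (by simp [hij, hil]), Finset.sum_pair hjl, gco, gco, gco]
    simp [hij, hil, hjl, Ne.symm hij, Ne.symm hil, Ne.symm hjl]
    linear_combination 3 * h7
  have heq : q e = c := by
    rw [h.unit_iff, h.ip_eq_sum_of eout e, Finset.sum_insert (by simp [hjl, hjm]), Finset.sum_pair hlm, eco, eco, eco]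
    simp [hjl, hjm, hlm, Ne.symm hjl, Ne.symm hjm, Ne.symm hlm]
    linear_combination 4 * h7
  have hip : ip q c e g = -1 := by
    rw [ip_comm, h.ip_eq_sum_of gout e, Finset.sum_insert (by simp [hij, hil]), Finset.sum_pair hjl,
      gco, gco, gco, eco, eco, eco]
    simp [hij, hil, him, hjl, hjm, hlm, Ne.symm hij, Ne.symm hil, Ne.symm him, Ne.symm hjl, Ne.symm hjm,
      Ne.symm hlm]
    linear_combination -2 * h7
  have hP := h.phi_refl (h3 g hgq ((Finset.card_le_card (supp_subset.2 gout)).trans Finset.card_le_three))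
    (h3 e heq ((Finset.card_le_card (supp_subset.2 eout)).trans Finset.card_le_three))
  refine h.phi_of_sq hX hP fun x => ?_
  rw [h.co_refl_unit hgq, hip, gco, eco]
  by_cases hx : x ∈ supp q b c v
  · rw [hall x hx]
    rw [hS] at hx
    simp only [Finset.mem_insert, Finset.mem_singleton] at hx
    rcases hx with rfl | rfl | rfl | rfl <;>
      simp [hij, hil, him, hjl, hjm, hlm, Ne.symm hij, Ne.symm hil, Ne.symm him, Ne.symm hjl, Ne.symm hjm,
        Ne.symm hlm] <;> first | linear_combination -2 * h7 | linear_combination -h7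
  · rw [notMem_supp.1 hx]
    rw [hS] at hx
    simp only [Finset.mem_insert, Finset.mem_singleton, not_or] at hx
    simp [Ne.symm hx.1, Ne.symm hx.2.1, Ne.symm hx.2.2.1, Ne.symm hx.2.2.2]

/-- A unit vector is a root as soon as the unit vectors with fewer coordinates are and a pair leaves a conic point. -/
theorem IsFrame.step_pair (h5 : 5 ≤ p) {v : ι → F} (hv : q v = c)
    (hsmall : ∀ w, q w = c → (supp q b c w).card < (supp q b c v).card → Phi q b c X w)
    {i j : Fin n} (hi : i ∈ supp q b c v) (hj : j ∈ supp q b c v) (hij : i ≠ j)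
    (hN : co q b c i v ^ 2 + co q b c j v ^ 2 ≠ 1) {x z : F} (hx : x ≠ 0) (hz : z ≠ 0) (hx2 : 2 * x ^ 2 ≠ 1)
    (hxz : x * x + (1 - (co q b c i v ^ 2 + co q b c j v ^ 2)) * (z * z) = 1) : Phi q b c X v := by
  classical
  obtain ⟨hui, huj, huo, hvu, hN'⟩ := h.off_pair hij v
  set u := v - co q b c i v • b i - co q b c j v • b j with hu
  have huu : ip q c u u ≠ 0 := by rw [hN' hv]; exact sub_ne_zero.2 hN.symm
  have hlt : ∀ y ∈ supp q b c v, ((supp q b c v).erase y).card < (supp q b c v).card := fun y hy =>
    Finset.card_erase_lt_of_mem hy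
  have hunit : ∀ a a' : F, a * a + a' * a' + ip q c u u * (z * z) = 1 → q (a • b i + a' • b j + z • u) = c := by
    intro a a' e
    rw [h.unit_iff]
    have := h.ip_vec hij hui huj ![a, a', z] ![a, a', z]
    simp only [Matrix.cons_val_zero, Matrix.cons_val_one, Matrix.cons_val] at this
    rw [this]
    simp [SphereThree.ip3]
    linear_combination e
  have hg : Phi q b c X (x • b i + (0 : F) • b j + z • u) := by
    refine hsmall _ (hunit x 0 (by rw [hN' hv]; linear_combination hxz)) ?_
    rw [hu, (h.supp_axis hij hx hz hi hj).1]; exact hlt j hj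
  have hg' : Phi q b c X ((0 : F) • b i + x • b j + z • u) := by
    have e : (0 : F) • b i + x • b j + z • u =
        x • b j + (0 : F) • b i + z • (v - co q b c j v • b j - co q b c i v • b i) := by rw [hu]; module
    refine hsmall _ (hunit 0 x (by rw [hN' hv]; linear_combination hxz)) ?_
    rw [e, (h.supp_axis hij.symm hx hz hj hi).1]; exact hlt i hi
  have := h.plane_sym hX p hcard h5 hij hui huj huu (f := ![x, 0, z]) (by simpa using hg) (by simpa using hg')
    (by simp [hz]) (Or.inl (by simp [hx])) (by simp [hx2]) (by simp [hx]) (by simp)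
    ![co q b c i v, co q b c j v, 1] (by simp [SphereThree.ip3, hN' hv]; ring)
  simp only [Matrix.cons_val_zero, Matrix.cons_val_one, Matrix.cons_val] at this
  rwa [← hvu] at this

/-- The unit vectors on four and on five frame vectors. -/
theorem IsFrame.climb (h5 : 5 ≤ p) (h3 : ∀ v, q v = c → (supp q b c v).card ≤ 3 → Phi q b c X v) :
    ∀ v, q v = c → Phi q b c X v := by
  classical
  intro v hv
  induction hk : (supp q b c v).card using Nat.strong_induction_on generalizing v with
  | _ k ih =>
    rcases Nat.lt_or_ge k 4 with hlt | hge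
    · exact h3 v hv (by omega)
    set S := supp q b c v with hS
    set s := fun i => co q b c i v ^ 2 with hs
    have hsum : ∑ i ∈ S, s i = 1 := h.sum_sq_supp hv
    have hle : S.card ≤ 5 := (Finset.card_le_univ _).trans (by simp [hn])
    have hsmall : ∀ w, q w = c → (supp q b c w).card < S.card → Phi q b c X w := fun w hw hwc =>
      ih _ (by omega) w hw rfl
    by_cases hp5 : p = 5
    · subst hp5
      have f5 : (5 : F) = 0 := by exact_mod_cast CharP.cast_eq_zero F 5
      set P := S.filter fun i => s i = 1 with hP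
      have hM : ∀ i ∈ S \ P, s i = -1 := fun i hi => by
        simp only [Finset.mem_sdiff, hP, Finset.mem_filter, not_and] at hi
        exact (sq_five hcard (mem_supp.1 hi.1)).resolve_left (hi.2 hi.1)
      have hPS : P ⊆ S := Finset.filter_subset _ _
      have hcount : (P.card : F) - ((S \ P).card : F) = 1 := by
        rw [← Finset.sum_sdiff hPS, Finset.sum_congr rfl hM, Finset.sum_congr rfl fun i hi => (Finset.mem_filter.1 hi).2,
          Finset.sum_const, Finset.sum_const] at hsum
        simp at hsum
        linear_combination hsum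
      have hcs := Finset.card_sdiff_add_card_eq_card hPS
      have hdvd : 5 ∣ P.card + 4 * (S \ P).card + 4 := (CharP.cast_eq_zero_iff F 5 _).1 (by
        push_cast; linear_combination hcount + ((S \ P).card + 1 : F) * f5)
      obtain ⟨i, hi, j, hj, hij⟩ := Finset.one_lt_card.1 (show 1 < (S \ P).card by
        obtain ⟨r, hr⟩ := hdvd
        have : r ≤ 5 := by omega
        interval_cases r <;> omega)
      have ei : co q b c i v ^ 2 = -1 := hM i hi
      have ej : co q b c j v ^ 2 = -1 := hM j hj
      exact h.step_pair hX 5 hcard hn h5 hv hsmall (Finset.mem_sdiff.1 hi).1 (Finset.mem_sdiff.1 hj).1 hij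
        (by rw [ei, ej]; intro e; exact h.two (by linear_combination e + f5))
        h.two h.two (fun e => h.two (by linear_combination e - f5))
        (by rw [ei, ej]; linear_combination 3 * f5)
    by_cases hp7 : p = 7
    · subst hp7
      have f7 : (7 : F) = 0 := by exact_mod_cast CharP.cast_eq_zero F 7
      have hval : ∀ i ∈ S, s i = 1 ∨ s i = 2 ∨ s i = 4 := fun i hi => sq_seven hcard f7 (mem_supp.1 hi)
      have n3 : (3 : F) ≠ 0 := by exact_mod_cast small_ne (F := F) 7 (m := 3) (by norm_num) (by omega)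
      by_cases hone : ∃ i ∈ S, s i = 1
      · obtain ⟨i, hi, ei⟩ := hone
        obtain ⟨j, hj, hji⟩ := Finset.exists_mem_ne (show 1 < S.card by omega) i
        have ei' : co q b c i v ^ 2 = 1 := ei
        have h9 : 2 * (3 : F) ^ 2 ≠ 1 := fun e => n3 (by linear_combination e - 2 * f7)
        rcases hval j hj with e | e | e <;> simp only [hs] at e
        · exact h.step_pair hX 7 hcard hn h5 hv hsmall hi hj hji.symm
            (by rw [ei', e]; intro e'; exact one_ne_zero (α := F) (by linear_combination e'))
            n3 one_ne_zero h9 (by rw [ei', e]; linear_combination f7)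
        · exact h.step_pair hX 7 hcard hn h5 hv hsmall hi hj hji.symm
            (by rw [ei', e]; intro e'; exact h.two (by linear_combination e'))
            n3 h.two h9 (by rw [ei', e]; ring)
        · exact h.step_pair hX 7 hcard hn h5 hv hsmall hi hj hji.symm
            (by rw [ei', e]; intro e'; exact mul_ne_zero h.two h.two (by linear_combination e'))
            n3 n3 h9 (by rw [ei', e]; linear_combination -4 * f7)
      push Not at hone
      set A := S.filter fun i => s i = 2 with hA
      have hB : ∀ i ∈ S \ A, s i = 4 := fun i hi => by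
        simp only [Finset.mem_sdiff, hA, Finset.mem_filter, not_and] at hi
        exact ((hval i hi.1).resolve_left (hone i hi.1)).resolve_left (hi.2 hi.1)
      have hAS : A ⊆ S := Finset.filter_subset _ _
      have hcount : 2 * (A.card : F) + 4 * ((S \ A).card : F) = 1 := by
        rw [← Finset.sum_sdiff hAS, Finset.sum_congr rfl hB, Finset.sum_congr rfl fun i hi => (Finset.mem_filter.1 hi).2,
          Finset.sum_const, Finset.sum_const] at hsum
        simp at hsum
        linear_combination hsum
      have hcs := Finset.card_sdiff_add_card_eq_card hAS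
      have hdvd : 7 ∣ 2 * A.card + 4 * (S \ A).card + 6 := (CharP.cast_eq_zero_iff F 7 _).1 (by
        push_cast; linear_combination hcount + f7)
      have hall : ∀ i ∈ S, co q b c i v ^ 2 = 2 := fun i hi => by
        have hB0 : (S \ A).card = 0 := by
          obtain ⟨r, hr⟩ := hdvd
          have : r ≤ 4 := by omega
          interval_cases r <;> omega
        have : i ∈ A := by
          by_contra hiA
          exact Finset.notMem_empty i (Finset.card_eq_zero.1 hB0 ▸ Finset.mem_sdiff.2 ⟨hi, hiA⟩)
        exact (Finset.mem_filter.1 this).2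
      refine h.seven_four hX 7 hcard hn f7 h3 ?_ hall
      rw [← hS]
      obtain ⟨r, hr⟩ := hdvd
      have : r ≤ 4 := by omega
      interval_cases r <;> omega
    have h11 : 11 ≤ p := by
      have := (Fact.out : p.Prime).eq_one_or_self_of_dvd 2
      have := (Fact.out : p.Prime).eq_one_or_self_of_dvd 3
      by_contra
      interval_cases p <;> simp_all
    have n3 : (3 : F) ≠ 0 := by exact_mod_cast small_ne (F := F) p (m := 3) (by norm_num) (by omega)
    obtain ⟨i, hi, j, hj, hij, hne⟩ : ∃ i ∈ S, ∃ j ∈ S, i ≠ j ∧ s i + s j ≠ 1 := by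
      by_contra hcon
      push Not at hcon
      have hhalf : ∀ a ∈ S, 2 * s a = 1 := fun a ha => by
        obtain ⟨b', hb', d, hd, hbd⟩ := Finset.one_lt_card.1
          (show 1 < (S.erase a).card by rw [Finset.card_erase_of_mem ha]; omega)
        simp only [Finset.mem_erase] at hb' hd
        linear_combination hcon a ha b' hb'.2 hb'.1.symm + hcon a ha d hd.2 hd.1.symm -
          hcon b' hb'.2 d hd.2 hbd
      have e := congrArg (fun y : F => 2 * y) hsum
      simp only [Finset.mul_sum, mul_one] at e
      rw [Finset.sum_congr rfl hhalf, Finset.sum_const, nsmul_eq_mul, mul_one] at e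
      rcases show S.card = 4 ∨ S.card = 5 by omega with h' | h' <;> rw [h'] at e <;> push_cast at e
      · exact h.two (by linear_combination e)
      · exact n3 (by linear_combination e)
    obtain ⟨x, z, hx, hz, hx2, hxz⟩ := exists_off_diag p h11
      (show (1 : F) - (co q b c i v ^ 2 + co q b c j v ^ 2) ≠ 0 from sub_ne_zero.2 hne.symm)
    exact h.step_pair hX p hcard hn h5 hv hsmall hi hj hij hne hx hz hx2 hxz

omit hcard in
/-- Over three elements four coordinates give all. -/
theorem IsFrame.all_of_three (hsq : ∀ x : F, x ≠ 0 → x ^ 2 = 1) (h3 : (3 : F) = 0) {f : ι → F}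
    (hf : Phi q b c X f) (hc : 3 ≤ (supp q b c f).card) : ∀ v, q v = c → Phi q b c X v := by
  classical
  have hcases : ∀ w : ι → F, q w = c → (supp q b c w).card = 1 ∨ (supp q b c w).card = 4 := by
    intro w hw
    have e := h.sum_sq_supp hw
    rw [Finset.sum_congr rfl fun i hi => hsq _ (mem_supp.1 hi), Finset.sum_const, nsmul_eq_mul, mul_one] at e
    have hle : (supp q b c w).card ≤ 5 := (Finset.card_le_univ _).trans (by simp [hn])
    have : CharP F 3 := (CharP.charP_iff_prime_eq_zero (by norm_num)).2 h3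
    have hdvd : 3 ∣ (supp q b c w).card + 2 := (CharP.cast_eq_zero_iff F 3 _).1 (by
      push_cast; linear_combination e + h3)
    omega
  have hf4 : (supp q b c f).card = 4 := (hcases f hf.1).resolve_left (by omega)
  intro v hv
  rcases hcases v hv with h1 | h4
  · obtain ⟨j, rfl | rfl⟩ := h.eq_of_supp_one hv h1.le
    exacts [h.phi_b hX j, h.phi_neg (h.phi_b hX j)]
  obtain ⟨m, hm⟩ := exists_outside (S := supp q b c f) (by omega)
  obtain ⟨m', hm'⟩ := exists_outside (S := supp q b c v) (by omega)
  have uniq : ∀ (w : ι → F) (a : Fin n), (supp q b c w).card = 4 → a ∉ supp q b c w → ∀ y,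
      co q b c y w ^ 2 = if y = a then 0 else 1 := by
    intro w a hw ha y
    split_ifs with e
    · rw [e, notMem_supp.1 ha]; ring
    · refine hsq _ (mem_supp.1 ?_)
      by_contra hy
      have hsub : supp q b c w ⊆ (Finset.univ.erase a).erase y := fun z hz => by
        simp only [Finset.mem_erase, Finset.mem_univ, and_true]
        exact ⟨fun e' => hy (e' ▸ hz), fun e' => ha (e' ▸ hz)⟩
      have := Finset.card_le_card hsub
      rw [Finset.card_erase_of_mem (by simp [e]), Finset.card_erase_of_mem (by simp), Finset.card_univ,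
        Fintype.card_fin] at this
      omega
  rcases eq_or_ne m m' with rfl | hmm
  · exact h.phi_of_sq hX hf fun y => by rw [uniq v m h4 hm', uniq f m hf4 hm]
  obtain ⟨a, ha, a', ha', haa⟩ := Finset.one_lt_card.1 (show 1 < ((Finset.univ.erase m).erase m' : Finset (Fin n)).card by
    rw [Finset.card_erase_of_mem (by simp [hmm.symm]), Finset.card_erase_of_mem (by simp), Finset.card_univ,
      Fintype.card_fin]
    omega)
  simp only [Finset.mem_erase, Finset.mem_univ, and_true] at ha ha'
  refine h.phi_of_sq hX (h.phi_even hX hf (by omega) (Equiv.swap m m' * Equiv.swap a a') (by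
    rw [map_mul, Equiv.Perm.sign_swap hmm, Equiv.Perm.sign_swap haa]; simp)) fun y => ?_
  rw [h.co_perm, Equiv.Perm.mul_def, Equiv.symm_trans_apply, Equiv.symm_swap, Equiv.symm_swap, uniq v m' h4 hm',
    uniq f m hf4 hm]
  rcases eq_or_ne y m' with rfl | y1
  · rw [Equiv.swap_apply_right, Equiv.swap_apply_of_ne_of_ne ha.2.symm ha'.2.symm, if_pos rfl, if_pos rfl]
  rw [if_neg y1, if_neg fun e => ?_]
  have e1 := congrArg (Equiv.swap a a') e
  rw [Equiv.swap_apply_self, Equiv.swap_apply_of_ne_of_ne ha.2.symm ha'.2.symm] at e1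
  exact y1 (by rw [← Equiv.swap_apply_self m m' y, e1, Equiv.swap_apply_left])

omit hcard in
/-- An element which is no signed permutation gives a root on at least three frame vectors. -/
theorem IsFrame.start_five {g : O q} (hg : g ∈ X) (hne : ¬ Mono b g) :
    ∃ f, Phi q b c X f ∧ 3 ≤ (supp q b c f).card := by
  classical
  by_contra hcon
  push Not at hcon
  have hle : ∀ f, Phi q b c X f → (supp q b c f).card ≤ 2 := fun f hf => Nat.lt_succ_iff.1 (hcon f hf)
  have hhalf : ∀ f, Phi q b c X f → ∀ i j, i ≠ j → supp q b c f = {i, j} → 2 * co q b c j f ^ 2 = 1 := by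
    intro f hf i j hij hs
    by_contra hc
    obtain ⟨g', hg', hg3⟩ := h.supp_two_step hX (by omega) hf hij hs hc
    have := hle g' hg'; omega
  have hcompl : ∀ a, h.sgn ({a}ᶜ : Finset (Fin n)) ∈ X := fun a => h.sgn_mem hX _ (by
    rw [Finset.card_compl, Finset.card_singleton, Fintype.card_fin, hn]; decide)
  have hpair : ∀ a a', refl q (app g (b a)) * refl q (b a') ∈ X := fun a a' => by
    have := X.mul_mem (X.mul_mem (X.mul_mem hg (hcompl a)) (X.inv_mem hg)) (hcompl a')
    rw [h.sgn_compl, h.sgn_compl, h.sgn_single, h.sgn_single,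
      show g * (h.sgn Finset.univ * refl q (b a)) * g⁻¹ =
        (g * h.sgn Finset.univ * g⁻¹) * (g * refl q (b a) * g⁻¹) by group,
      (h.commute_univ g).eq, mul_inv_cancel_right, refl_conj, mul_assoc (h.sgn Finset.univ),
      ← mul_assoc (refl q (app g (b a))), ← (h.commute_univ (refl q (app g (b a)))).symm.eq, mul_assoc,
      ← mul_assoc (h.sgn Finset.univ), h.sgn_mul, symmDiff_self, Finset.bot_eq_empty, h.sgn_empty, one_mul] at this
    exact this
  have himg : ∀ a, Phi q b c X (app g (b a)) := fun a => ⟨by rw [Q_app, h.val a], hpair a⟩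
  have hmap : ∀ f, Phi q b c X f → Phi q b c X (app g f) := fun f hf => by
    refine ⟨by rw [Q_app, hf.1], fun a => ?_⟩
    have := X.mul_mem (X.mul_mem (X.mul_mem hg (hf.2 a)) (X.inv_mem hg)) (hpair a a)
    rwa [show g * (refl q f * refl q (b a)) * g⁻¹ = (g * refl q f * g⁻¹) * (g * refl q (b a) * g⁻¹) by group,
      refl_conj, refl_conj, mul_assoc, ← mul_assoc (refl q (app g (b a))), refl_mul_self, one_mul] at this
  obtain ⟨a, ha⟩ : ∃ a, (supp q b c (app g (b a))).card = 2 := by
    by_contra hall
    push Not at hall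
    refine hne fun a => ?_
    have h1 := hle _ (himg a)
    have h2 := hall a
    exact h.eq_of_supp_one (himg a).1 (by omega)
  obtain ⟨k, l, hkl, hkls⟩ := Finset.card_eq_two.1 ha
  have el := hhalf _ (himg a) k l hkl hkls
  have ek := hhalf _ (himg a) l k hkl.symm (by rw [hkls, Finset.pair_comm])
  have horth : ∀ d d', d ≠ d' → ip q c (app g (b d)) (app g (b d')) = 0 := fun d d' hd => by
    rw [ip_app, h.ip_b, if_neg hd]
  -- the images disjoint from the first
  have hdis : ∀ d, d ≠ a → co q b c k (app g (b d)) ≠ 0 ∨ co q b c l (app g (b d)) ≠ 0 →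
      supp q b c (app g (b d)) = {k, l} := by
    intro d hd hmeet
    have e := horth a d hd.symm
    rw [h.ip_eq_sum_of (s := {k, l}) (fun y hy => notMem_supp.1 (by rw [hkls]; exact hy)) _,
      Finset.sum_pair hkl] at e
    have hk0 : co q b c k (app g (b a)) ≠ 0 := mem_supp.1 (by rw [hkls]; simp)
    have hl0 : co q b c l (app g (b a)) ≠ 0 := mem_supp.1 (by rw [hkls]; simp)
    have both : co q b c k (app g (b d)) ≠ 0 ∧ co q b c l (app g (b d)) ≠ 0 := by
      refine ⟨fun z => ?_, fun z => ?_⟩ <;> rw [z] at e hmeet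
      · exact (hmeet.resolve_left (not_not.2 rfl))
          ((mul_eq_zero.1 (by linear_combination e : co q b c l (app g (b a)) * co q b c l (app g (b d)) = 0)).resolve_left hl0)
      · exact (hmeet.resolve_right (not_not.2 rfl))
          ((mul_eq_zero.1 (by linear_combination e : co q b c k (app g (b a)) * co q b c k (app g (b d)) = 0)).resolve_left hk0)
    refine (Finset.eq_of_subset_of_card_le ?_ (by rw [Finset.card_pair hkl]; exact hle _ (himg d))).symm
    intro y hy
    simp only [Finset.mem_insert, Finset.mem_singleton] at hy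
    rcases hy with rfl | rfl
    exacts [mem_supp.2 both.1, mem_supp.2 both.2]
  obtain ⟨d, hd, hk, hl⟩ : ∃ d, d ≠ a ∧ co q b c k (app g (b d)) = 0 ∧ co q b c l (app g (b d)) = 0 := by
    obtain ⟨d₁, hd₁, d₂, hd₂, h12⟩ := Finset.one_lt_card.1 (show 1 < (Finset.univ.erase a : Finset (Fin n)).card by
      rw [Finset.card_erase_of_mem (by simp), Finset.card_univ, Fintype.card_fin]; omega)
    simp only [Finset.mem_erase, Finset.mem_univ, and_true] at hd₁ hd₂
    by_contra hnone
    push Not at hnone
    have s₁ := hdis d₁ hd₁ (or_iff_not_imp_left.2 fun z => hnone d₁ hd₁ (not_not.1 z))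
    have s₂ := hdis d₂ hd₂ (or_iff_not_imp_left.2 fun z => hnone d₂ hd₂ (not_not.1 z))
    have e1 := horth a d₁ hd₁.symm
    have e2 := horth a d₂ hd₂.symm
    have e3 := horth d₁ d₂ h12
    rw [h.ip_eq_sum_of (s := {k, l}) (fun y hy => notMem_supp.1 (by rw [hkls]; exact hy)) _,
      Finset.sum_pair hkl] at e1 e2
    rw [h.ip_eq_sum_of (s := {k, l}) (fun y hy => notMem_supp.1 (by rw [s₁]; exact hy)) _,
      Finset.sum_pair hkl] at e3
    set A := co q b c k (app g (b a))
    set B := co q b c l (app g (b a))
    have hbad : co q b c l (app g (b d₁)) * co q b c l (app g (b d₂)) = 0 := mul_left_cancel₀ h.two (by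
      linear_combination 2 * (A ^ 2 * e3 - A * co q b c k (app g (b d₂)) * e1 +
        B * co q b c l (app g (b d₁)) * e2) -
        co q b c l (app g (b d₁)) * co q b c l (app g (b d₂)) * ek -
        co q b c l (app g (b d₁)) * co q b c l (app g (b d₂)) * el)
    rcases mul_eq_zero.1 hbad with z | z
    · exact mem_supp.1 (show l ∈ supp q b c (app g (b d₁)) by rw [s₁]; simp) z
    · exact mem_supp.1 (show l ∈ supp q b c (app g (b d₂)) by rw [s₂]; simp) z
  -- transport the long root to the pair
  obtain ⟨σ, hσk, hσl⟩ : ∃ σ : Equiv.Perm (Fin n), σ k = a ∧ σ l = d := by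
    refine ⟨Equiv.swap (Equiv.swap k a l) d * Equiv.swap k a, ?_, ?_⟩
    · rw [Equiv.Perm.mul_apply, Equiv.swap_apply_left, Equiv.swap_apply_of_ne_of_ne ?_ hd.symm]
      intro e
      have e' := congrArg (Equiv.swap k a) e
      rw [Equiv.swap_apply_right, Equiv.swap_apply_self] at e'
      exact hkl e'
    · rw [Equiv.Perm.mul_apply, Equiv.swap_apply_left]
  have hw := hmap _ (h.phi_perm hX (himg a) (by rw [ha]; omega) σ)
  have hwexp : app (h.perm σ) (app g (b a)) =
      co q b c k (app g (b a)) • b a + co q b c l (app g (b a)) • b d := by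
    refine h.ext_co fun y => ?_
    rw [h.co_perm, co_add, co_smul, co_smul, h.co_b, h.co_b]
    rcases eq_or_ne y a with rfl | y1
    · rw [show σ.symm y = k by rw [Equiv.symm_apply_eq, hσk]]; simp [hd]
    rcases eq_or_ne y d with rfl | y2
    · rw [show σ.symm y = l by rw [Equiv.symm_apply_eq, hσl]]; simp [hd.symm]
    · have hy0 : co q b c (σ.symm y) (app g (b a)) = 0 := notMem_supp.1 (by
        rw [hkls]
        simp only [Finset.mem_insert, Finset.mem_singleton, Equiv.symm_apply_eq, hσk, hσl]
        tauto)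
      simp [hy0, y1.symm, y2.symm]
  rw [hwexp, map_add, map_smul, map_smul] at hw
  obtain ⟨x, hx⟩ : (supp q b c (app g (b d))).Nonempty := by
    by_contra he
    have e := h.sum_sq_supp (himg d).1
    rw [Finset.not_nonempty_iff_eq_empty.1 he, Finset.sum_empty] at e
    exact zero_ne_one e
  have hxk : x ≠ k := fun e => mem_supp.1 hx (e ▸ hk)
  have hxl : x ≠ l := fun e => mem_supp.1 hx (e ▸ hl)
  have hA0 : co q b c k (app g (b a)) ≠ 0 := mem_supp.1 (by rw [hkls]; simp)
  have hB0 : co q b c l (app g (b a)) ≠ 0 := mem_supp.1 (by rw [hkls]; simp)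
  have h3 : ({x, k, l} : Finset (Fin n)).card = 3 := by
    rw [Finset.card_insert_of_notMem (by simp [hxk, hxl]), Finset.card_pair hkl]
  have := hle _ hw
  have := Finset.card_le_card (s := ({x, k, l} : Finset (Fin n)))
    (t := supp q b c (co q b c k (app g (b a)) • app g (b a) + co q b c l (app g (b a)) • app g (b d))) (fun y hy => by
    rw [mem_supp, co_add, co_smul, co_smul]
    simp only [Finset.mem_insert, Finset.mem_singleton] at hy
    rcases hy with rfl | rfl | rfl
    · have hy0 : co q b c y (app g (b a)) = 0 := notMem_supp.1 (by rw [hkls]; simp [hxk, hxl])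
      rw [hy0, mul_zero, zero_add]
      exact mul_ne_zero hB0 (mem_supp.1 hx)
    · rw [hk, mul_zero, add_zero]; exact mul_ne_zero hA0 hA0
    · rw [hl, mul_zero, add_zero]; exact mul_ne_zero hA0 hB0)
  omega

/-- Every unit vector is a root as soon as the group has an element which is no signed permutation. -/
theorem IsFrame.unit_phi {g : O q} (hg : g ∈ X) (hne : ¬ Mono b g) : ∀ v, q v = c → Phi q b c X v := by
  classical
  obtain ⟨f, hf, hfc⟩ := h.start_five hX hn hg hne
  have hp2 : p ≠ 2 := by
    rintro rfl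
    exact h.two (by exact_mod_cast CharP.cast_eq_zero F 2)
  by_cases hp3 : p = 3
  · subst hp3
    refine h.all_of_three hX hn (fun x hx => ?_) (by exact_mod_cast CharP.cast_eq_zero F 3) hf hfc
    exact pow_pred_eq_one 3 hcard hx
  have h5 : 5 ≤ p := by
    have := (Fact.out : p.Prime).two_le
    have : p ≠ 4 := fun e => absurd (e ▸ (Fact.out : p.Prime)) (by norm_num)
    omega
  obtain ⟨f', hf', hf3⟩ := h.to_three hX p hcard hn h5 hf hfc
  exact h.climb hX p hcard hn h5 (h.three_all hX p hcard hn h5 hf' hf3)

end CfsgLib.GeomClasses.Frame
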