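import Cfsg.Agent.Lib.GeomClasses.SphereAxes

/-!
Counting the axes of a finite group of rotations of a three-dimensional quadratic space: each orbit of axes
contributes its length times one less than the order of the rotations about one of its members.
-/

set_option autoImplicit false
set_option linter.unusedSectionVars false

namespace CfsgLib.Sp4Odd

open Matrix CfsgLib.GeomClasses.SphereThree

attribute [local instance] CfsgLib.GeomClasses.SphereThree.lineAction

variable {F : Type*} [Field F] [Finite F] (H : Subgroup (GL (Fin 3) F))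

/-- The length of the orbit of an axis. -/
noncomputable def orbLen (a : Submodule F (Fin 3 → F)) : ℕ := Nat.card (MulAction.orbit H a)

/-- The order of the group of rotations about an axis. -/
noncomputable def fixLen (a : Submodule F (Fin 3 → F)) : ℕ := Nat.card (fixing H a)

/-- Being the axis of a rotation of the group. -/
def IsAxis (a : Submodule F (Fin 3 → F)) : Prop := ∃ h : H, h ≠ 1 ∧ axis (h : GL (Fin 3) F) = a

/-- The rotations about an axis have index at most two in its stabiliser, with equality where it is flipped. -/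
theorem orb_mul_fix {a : Submodule F (Fin 3 → F)}
    (h2 : (fixing H a).relIndex (MulAction.stabilizer H a) ≤ 2) :
    orbLen H a * fixLen H a = Nat.card H ∨ orbLen H a * (2 * fixLen H a) = Nat.card H := by
  have hum : orbLen H a * Nat.card (MulAction.stabilizer H a) = Nat.card H := by
    rw [orbLen, Nat.card_coe_set_eq, ← MulAction.index_stabilizer, Subgroup.index_mul_card]
  have hle := fixing_le_stabilizer H a
  have h0 : (fixing H a).relIndex (MulAction.stabilizer H a) ≠ 0 := Subgroup.index_ne_zero_of_finite
  have h4 := Subgroup.card_mul_index ((fixing H a).subgroupOf (MulAction.stabilizer H a))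
  rw [Nat.card_congr (Subgroup.subgroupOfEquivOfLe hle).toEquiv] at h4
  rw [Subgroup.relIndex] at h0 h2
  rcases (show ((fixing H a).subgroupOf (MulAction.stabilizer H a)).index = 1 ∨
      ((fixing H a).subgroupOf (MulAction.stabilizer H a)).index = 2 by omega) with e | e <;> rw [e] at h4
  · left; rw [← hum, ← h4, mul_one]; rfl
  · right; rw [← hum, ← h4, mul_comm 2]; rfl

theorem orb_mul_fix_flip {a : Submodule F (Fin 3 → F)}
    (hflip : (fixing H a).relIndex (MulAction.stabilizer H a) = 2) :
    orbLen H a * (2 * fixLen H a) = Nat.card H := by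
  have hum : orbLen H a * Nat.card (MulAction.stabilizer H a) = Nat.card H := by
    rw [orbLen, Nat.card_coe_set_eq, ← MulAction.index_stabilizer, Subgroup.index_mul_card]
  have hle := fixing_le_stabilizer H a
  have h4 := Subgroup.card_mul_index ((fixing H a).subgroupOf (MulAction.stabilizer H a))
  rw [Nat.card_congr (Subgroup.subgroupOfEquivOfLe hle).toEquiv] at h4
  rw [Subgroup.relIndex] at hflip
  rw [hflip] at h4
  rw [← hum, ← h4, mul_comm 2]; rfl

variable (hax : ∀ h : H, h ≠ 1 → ∃ v, v ≠ 0 ∧ axis (h : GL (Fin 3) F) = Submodule.span F {v})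
include hax

theorem two_le_fix {a : Submodule F (Fin 3 → F)} (ha : IsAxis H a) : 2 ≤ fixLen H a := by
  obtain ⟨h, hh, rfl⟩ := ha
  have hm : h ∈ fixing H (axis (h : GL (Fin 3) F)) := fun x hx => mem_axis.1 hx
  have : Nontrivial (fixing H (axis (h : GL (Fin 3) F))) :=
    ⟨⟨⟨h, hm⟩, 1, fun e => hh (congrArg Subtype.val e)⟩⟩
  exact Finite.one_lt_card

/-- Orbits of axes, no two the same, count at most all nontrivial rotations, and all of them when they exhaust
the axes. -/
theorem axis_sum {k : ℕ} (a : Fin k → Submodule F (Fin 3 → F)) (ha : ∀ i, IsAxis H (a i))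
    (hne : ∀ i j, i ≠ j → a j ∉ MulAction.orbit H (a i)) :
    (∑ i, orbLen H (a i) * (fixLen H (a i) - 1)) + 1 ≤ Nat.card H ∧
      ((∀ b, IsAxis H b → ∃ i, b ∈ MulAction.orbit H (a i)) →
        (∑ i, orbLen H (a i) * (fixLen H (a i) - 1)) + 1 = Nat.card H) := by
  classical
  have := Fintype.ofFinite H
  have hN : 0 < Nat.card H := Nat.card_pos
  let A := ((Finset.univ : Finset H).erase 1).image fun h : H => axis (h : GL (Fin 3) F)
  have hAmem : ∀ b, b ∈ A ↔ IsAxis H b := fun b => by simp [A, IsAxis]
  let w : Submodule F (Fin 3 → F) → ℕ := fun b => fixLen H b - 1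
  have hsum : ∑ b ∈ A, w b = Nat.card H - 1 := by
    rw [show Nat.card H - 1 = ((Finset.univ : Finset H).erase 1).card by
      rw [Finset.card_erase_of_mem (Finset.mem_univ _), Finset.card_univ, Nat.card_eq_fintype_card],
      Finset.card_eq_sum_card_fiberwise (f := fun h : H => axis (h : GL (Fin 3) F)) (t := A)
        fun h hh => Finset.mem_image_of_mem _ hh]
    refine Finset.sum_congr rfl fun b hb => ?_
    obtain ⟨h, hh1, rfl⟩ := (hAmem b).1 hb
    obtain ⟨v, hv, hspan⟩ := hax h hh1
    have e : ((Finset.univ : Finset H).erase 1).filter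
        (fun g : H => axis (g : GL (Fin 3) F) = axis (h : GL (Fin 3) F)) =
        ((Finset.univ : Finset H).filter fun g => g ∈ fixing H (axis (h : GL (Fin 3) F))).erase 1 := by
      ext g
      simp only [Finset.mem_filter, Finset.mem_erase, Finset.mem_univ, and_true, true_and]
      refine and_congr_right fun hg1 => ⟨fun e x hx => mem_axis.1 (by rw [e]; exact hx), fun hg => ?_⟩
      obtain ⟨v', hv', hspan'⟩ := hax g hg1
      have hvmem : v ∈ axis (h : GL (Fin 3) F) := by rw [hspan]; exact Submodule.mem_span_singleton_self v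
      have hv2 : v ∈ axis (g : GL (Fin 3) F) := mem_axis.2 (hg v hvmem)
      rw [hspan, hspan', span_eq_of_mem hv (hspan' ▸ hv2)]
    rw [e, Finset.card_erase_of_mem (by simp [(fixing H _).one_mem]), ← Fintype.card_subtype,
      ← Nat.card_eq_fintype_card]
    rfl
  let orb : Fin k → Finset (Submodule F (Fin 3 → F)) := fun i =>
    Finset.univ.image fun g : H => g • a i
  have horb : ∀ i, (orb i : Set _) = MulAction.orbit H (a i) := fun i => by simp [orb, MulAction.orbit]
  have hmem : ∀ i b, b ∈ orb i ↔ b ∈ MulAction.orbit H (a i) := fun i b => by rw [← horb i, Finset.mem_coe]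
  have hsub : ∀ i, orb i ⊆ A := fun i b hb => by
    obtain ⟨g, -, rfl⟩ := Finset.mem_image.1 hb
    obtain ⟨h, hh, he⟩ := ha i
    refine (hAmem _).2 ⟨g * h * g⁻¹, fun e => hh (conj_eq_one_iff.1 e), ?_⟩
    rw [Subgroup.coe_mul, Subgroup.coe_mul, Subgroup.coe_inv, axis_conj, he]
    rfl
  have hws : ∀ i, ∑ b ∈ orb i, w b = orbLen H (a i) * (fixLen H (a i) - 1) := fun i => by
    rw [Finset.sum_congr rfl fun b hb => ?_, Finset.sum_const, smul_eq_mul, orbLen, Nat.card_coe_set_eq, ← horb,
      Set.ncard_coe_finset]
    obtain ⟨g, -, rfl⟩ := Finset.mem_image.1 hb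
    simp only [w, fixLen, card_fixing_smul]
  have hdisj : Set.PairwiseDisjoint (↑(Finset.univ : Finset (Fin k))) orb := by
    intro i _ j _ hij
    rw [Function.onFun, Finset.disjoint_left]
    intro b hbi hbj
    refine hne i j hij ?_
    rw [hmem] at hbi hbj
    rw [← MulAction.orbit_eq_iff.2 hbi, MulAction.orbit_eq_iff.2 hbj]
    exact MulAction.mem_orbit_self _
  have hU : Finset.univ.biUnion orb ⊆ A := Finset.biUnion_subset.2 fun i _ => hsub i
  have hsumU : ∑ b ∈ Finset.univ.biUnion orb, w b = ∑ i, orbLen H (a i) * (fixLen H (a i) - 1) := by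
    rw [Finset.sum_biUnion hdisj]
    exact Finset.sum_congr rfl fun i _ => hws i
  refine ⟨?_, fun hall => ?_⟩
  · have := Finset.sum_le_sum_of_subset (f := w) hU
    omega
  · have e : Finset.univ.biUnion orb = A := hU.antisymm fun b hb => by
      obtain ⟨i, hi⟩ := hall b ((hAmem b).1 hb)
      exact Finset.mem_biUnion.2 ⟨i, Finset.mem_univ _, (hmem i b).2 hi⟩
    rw [e] at hsumU
    omega

end CfsgLib.Sp4Odd
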