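import Cfsg.Agent.Lib.PrimeElusive.SymplGroups
import Cfsg.Agent.Lib.Sp.Simple
import Cfsg.Agent.Lib.GeomClasses.FrameSign
import Mathlib.LinearAlgebra.QuadraticForm.Basic

/-!
The five anticommuting involutions of an extraspecial group of order 32 of minus type inside `Sp₄`, the orthogonal
space they span, and the action of `Sp₄` on it by conjugation.
-/

set_option autoImplicit false
set_option linter.unusedSectionVars false

namespace CfsgLib.Sp4Odd

open Matrix Cfsg CfsgLib.Orth CfsgLib.PrimeElusive.SymplType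

open scoped MatrixGroups

variable {F : Type*} [Field F] {R : Subgroup (GL (Fin 2 ⊕ Fin 2) F)}

/-- The monomials squaring to one, besides the identity. -/
def idx : Fin 5 → Fin 4 × Fin 4 := ![(0, 1), (0, 2), (1, 3), (2, 3), (3, 3)]

/-- The five involutions. -/
def gen (fr : Frame R) (i : Fin 5) : Matrix (Fin 2 ⊕ Fin 2) (Fin 2 ⊕ Fin 2) F := fr.mono (idx i).1 (idx i).2

/-- The space they span. -/
def clif (fr : Frame R) : (Fin 5 → F) →ₗ[F] Matrix (Fin 2 ⊕ Fin 2) (Fin 2 ⊕ Fin 2) F :=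
  Fintype.linearCombination F (gen fr)

/-- The sum of five squares. -/
noncomputable def q5 : QuadraticForm F (Fin 5 → F) := QuadraticMap.weightedSumSquares F fun _ : Fin 5 => (1 : F)

/-- The coordinates in the five involutions. -/
noncomputable def crd (fr : Frame R) : Matrix (Fin 2 ⊕ Fin 2) (Fin 2 ⊕ Fin 2) F →ₗ[F] (Fin 5 → F) where
  toFun M i := (gen fr i * M).trace / 4
  map_add' M N := funext fun i => by simp [mul_add, Matrix.trace_add, add_div]
  map_smul' t M := funext fun i => by simp [Matrix.trace_smul, mul_div_assoc]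

/-- Self-adjoint for the alternating form. -/
def SA (M : Matrix (Fin 2 ⊕ Fin 2) (Fin 2 ⊕ Fin 2) F) : Prop := Mᵀ * J (Fin 2) F = J (Fin 2) F * M

theorem spGL_iff {g : GL (Fin 2 ⊕ Fin 2) F} : g ∈ spGL 2 F ↔ (mt g)ᵀ * J (Fin 2) F * mt g = J (Fin 2) F :=
  (CfsgLib.Sp.mem_symplecticGroup_iff (A := mt g)).symm.trans SymplecticGroup.mem_iff'

theorem adj_eq {g : GL (Fin 2 ⊕ Fin 2) F} (hg : g ∈ spGL 2 F) :
    (mt g)ᵀ * J (Fin 2) F = J (Fin 2) F * mt g⁻¹ := by
  calc (mt g)ᵀ * J (Fin 2) F = (mt g)ᵀ * J (Fin 2) F * (mt g * mt g⁻¹) := by rw [mul_inv_val, mul_one]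
    _ = _ := by rw [← mul_assoc, spGL_iff.1 hg]

theorem smul_one_inj {s t : F} (h : s • (1 : Matrix (Fin 2 ⊕ Fin 2) (Fin 2 ⊕ Fin 2) F) = t • 1) : s = t := by
  simpa using congrFun (congrFun h (Sum.inl 0)) (Sum.inl 0)

theorem q5_apply (v : Fin 5 → F) : q5 v = ∑ i, v i * v i := by
  simp [q5, QuadraticMap.weightedSumSquares_apply]

theorem polar_q5 (v w : Fin 5 → F) : QuadraticMap.polar q5 v w = 2 * ∑ i, v i * w i := by
  rw [QuadraticMap.polar, q5_apply, q5_apply, q5_apply, Finset.mul_sum, ← Finset.sum_sub_distrib,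
    ← Finset.sum_sub_distrib]
  exact Finset.sum_congr rfl fun i _ => by simp; ring

variable (fr : Frame R)

theorem mono_zero : fr.mono 0 0 = 1 := by simp [Frame.mono, pr]

theorem gen_mul_add (i j : Fin 5) :
    gen fr i * gen fr j + gen fr j * gen fr i = if i = j then (2 : F) • 1 else 0 := by
  have key : ∀ i j : Fin 5, if i = j then
      (xr (idx i).1 (idx j).1 = 0 ∧ xr (idx i).2 (idx j).2 = 0 ∧
        sg (-1) (idx i).1 (idx j).1 * sg 1 (idx i).2 (idx j).2 = 1)
      else (xr (idx i).1 (idx j).1 = xr (idx j).1 (idx i).1 ∧ xr (idx i).2 (idx j).2 = xr (idx j).2 (idx i).2 ∧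
        sg (-1) (idx i).1 (idx j).1 * sg 1 (idx i).2 (idx j).2 =
          -(sg (-1) (idx j).1 (idx i).1 * sg 1 (idx j).2 (idx i).2)) := by decide
  have k := key i j
  simp only [gen, fr.mono_mul]
  split_ifs with hij
  · subst hij
    rw [if_pos rfl] at k
    rw [k.1, k.2.1, k.2.2, one_smul, mono_zero fr, two_smul]
  · rw [if_neg hij] at k
    rw [k.1, k.2.1, k.2.2, neg_smul, neg_add_cancel]

theorem clif_mul_add (v w : Fin 5 → F) :
    clif fr v * clif fr w + clif fr w * clif fr v = QuadraticMap.polar q5 v w • 1 := by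
  simp only [clif, Fintype.linearCombination_apply, Finset.sum_mul, Finset.mul_sum, smul_mul_assoc, mul_smul_comm,
    Finset.smul_sum, smul_smul]
  rw [Finset.sum_comm (f := fun x y : Fin 5 => (w x * v y) • (gen fr y * gen fr x)), ← Finset.sum_add_distrib,
    polar_q5, Finset.mul_sum, Finset.sum_smul]
  refine Finset.sum_congr rfl fun i _ => ?_
  rw [← Finset.sum_add_distrib, Finset.sum_eq_single i (fun j _ hj => ?_) (by simp)]
  · rw [mul_comm (w i) (v i), ← smul_add, gen_mul_add, if_pos rfl, smul_smul]; congr 1; ring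
  · rw [mul_comm (w j) (v i), ← smul_add, gen_mul_add, if_neg (Ne.symm hj), smul_zero]

variable (D : Data R 2) (hle : R ≤ spGL 2 F)
include D

theorem clif_sq (v : Fin 5 → F) : clif fr v * clif fr v = q5 v • 1 := by
  have h := clif_mul_add fr v v
  rw [polar_q5, ← q5_apply, ← two_smul F, mul_smul] at h
  exact smul_right_injective _ D.two h

theorem crd_clif (v : Fin 5 → F) : crd fr (clif fr v) = v := by
  have hk : ∀ i j : Fin 5, (gen fr i * gen fr j).trace = if i = j then 4 else 0 := by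
    intro i j
    simp only [gen, fr.mono_mul, Matrix.trace_smul]
    have key : ∀ i j : Fin 5, if i = j then
        (xr (idx i).1 (idx j).1 = 0 ∧ xr (idx i).2 (idx j).2 = 0 ∧
          sg (-1) (idx i).1 (idx j).1 * sg 1 (idx i).2 (idx j).2 = 1)
        else ¬ (xr (idx i).1 (idx j).1 = 0 ∧ xr (idx i).2 (idx j).2 = 0) := by decide
    have k := key i j
    split_ifs with hij
    · rw [if_pos hij] at k
      rw [k.1, k.2.1, k.2.2, one_smul, mono_zero fr, D.trace_one]
    · rw [if_neg hij] at k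
      rw [fr.trace_mono D _ _ k, smul_zero]
  funext i
  simp only [crd, LinearMap.coe_mk, AddHom.coe_mk, clif, Fintype.linearCombination_apply, Finset.mul_sum,
    mul_smul_comm, Matrix.trace_sum, Matrix.trace_smul, hk, smul_eq_mul, mul_ite, mul_zero,
    Finset.sum_ite_eq, Finset.mem_univ, if_true]
  rw [mul_div_assoc, div_self D.four_ne, mul_one]

theorem trace_clif (v : Fin 5 → F) : (clif fr v).trace = 0 := by
  have key : ∀ i : Fin 5, ¬ ((idx i).1 = 0 ∧ (idx i).2 = 0) := by decide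
  simp [clif, Fintype.linearCombination_apply, Matrix.trace_sum, gen, fr.trace_mono D _ _ (key _)]

include hle

theorem mono_adj (q q' : Fin 4) :
    (fr.mono q q')ᵀ * J (Fin 2) F = (sg (-1) q q * sg 1 q' q') • (J (Fin 2) F * fr.mono q q') := by
  obtain ⟨g, hg, e⟩ := fr.mono_mem q q'
  have hx : ∀ u : Fin 4, xr u u = 0 := by decide
  have hs : ∀ u u' : Fin 4, sg (-1) u u * sg 1 u' u' = 1 ∨ sg (-1) u u * sg 1 u' u' = -1 := by decide
  have h2 := fr.mono_mul q q' q q'
  rw [hx, hx, mono_zero fr, ← e] at h2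
  rw [← e, adj_eq (hle hg)]
  rcases hs q q' with s | s <;> rw [s] at h2 ⊢
  · rw [one_smul] at h2; rw [inv_of_sq_one h2, one_smul]
  · rw [neg_one_smul] at h2; rw [inv_of_sq_neg h2, neg_one_smul, mul_neg]

theorem clif_SA (v : Fin 5 → F) : SA (clif fr v) := by
  have key : ∀ i : Fin 5, sg (-1) (idx i).1 (idx i).1 * sg 1 (idx i).2 (idx i).2 = 1 := by decide
  simp only [SA, clif, Fintype.linearCombination_apply, Matrix.transpose_sum, Matrix.transpose_smul, Finset.sum_mul,
    Finset.mul_sum, smul_mul_assoc, mul_smul_comm, gen, mono_adj fr D hle, key, one_smul]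

theorem clif_crd {M : Matrix (Fin 2 ⊕ Fin 2) (Fin 2 ⊕ Fin 2) F} (hM : SA M) (ht : M.trace = 0) :
    clif fr (crd fr M) = M := by
  have key : ∀ q q' : Fin 4, sg (-1) q q * sg 1 q' q' = -1 ∨
      (sg (-1) q q * sg 1 q' q' = 1 ∧ ((q = 0 ∧ q' = 0) ∨ ∃ i, idx i = (q, q'))) := by decide
  have hJ : ∀ N : Matrix (Fin 2 ⊕ Fin 2) (Fin 2 ⊕ Fin 2) F, J (Fin 2) F * (J (Fin 2) F * N) = -N := fun N => by
    rw [← mul_assoc, Matrix.J_squared, neg_one_mul]
  have hspan : ∀ N ∈ Submodule.span F (Set.range fun p : Fin 4 × Fin 4 => fr.mono p.1 p.2),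
      ∃ (t : F) (v : Fin 5 → F), N - J (Fin 2) F * (Nᵀ * J (Fin 2) F) = t • 1 + clif fr v := by
    intro N hN
    induction hN using Submodule.span_induction with
    | mem x hx =>
      obtain ⟨⟨q, q'⟩, rfl⟩ := hx
      rw [mono_adj fr D hle, mul_smul_comm, hJ, smul_neg, sub_neg_eq_add]
      rcases key q q' with s | ⟨s, ⟨rfl, rfl⟩ | ⟨i, hi⟩⟩
      · exact ⟨0, 0, by rw [s, neg_one_smul]; simp⟩
      · refine ⟨2, 0, ?_⟩
        rw [s, one_smul, mono_zero fr, two_smul]; simp [mono_zero fr]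
      · refine ⟨0, Pi.single i 2, ?_⟩
        rw [s, one_smul, clif, Fintype.linearCombination_apply, Finset.sum_eq_single i
          (fun j _ hj => by simp [hj]) (by simp), gen, hi, Pi.single_eq_same, two_smul]
        simp
    | zero => exact ⟨0, 0, by simp⟩
    | add x y _ _ hx hy =>
      obtain ⟨t, v, hv⟩ := hx
      obtain ⟨t', v', hv'⟩ := hy
      refine ⟨t + t', v + v', ?_⟩
      rw [Matrix.transpose_add, add_mul, mul_add, map_add, add_smul, add_sub_add_comm, hv, hv']; abel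
    | smul a x _ hx =>
      obtain ⟨t, v, hv⟩ := hx
      refine ⟨a * t, a • v, ?_⟩
      rw [Matrix.transpose_smul, smul_mul_assoc, mul_smul_comm, ← smul_sub, hv, map_smul, smul_add, smul_smul]
  obtain ⟨t, v, hv⟩ := hspan M (by rw [fr.span D]; trivial)
  rw [hM, hJ, sub_neg_eq_add, ← two_smul F] at hv
  have h0 := congrArg Matrix.trace hv
  rw [Matrix.trace_smul, Matrix.trace_add, Matrix.trace_smul, ht, trace_clif fr D, D.trace_one, smul_zero, add_zero,
    smul_eq_mul, eq_comm, mul_eq_zero] at h0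
  rw [h0.resolve_right D.four_ne, zero_smul, zero_add] at hv
  have hM' : M = clif fr ((2 : F)⁻¹ • v) := by rw [map_smul, ← hv, smul_smul, inv_mul_cancel₀ D.two, one_smul]
  rw [hM', crd_clif fr D]

/-- Conjugation of the five-space. -/
noncomputable def conjMap (g : GL (Fin 2 ⊕ Fin 2) F) : (Fin 5 → F) →ₗ[F] (Fin 5 → F) :=
  (crd fr) ∘ₗ (LinearMap.mulLeft F (mt g) ∘ₗ LinearMap.mulRight F (mt g⁻¹)) ∘ₗ (clif fr)

theorem clif_conjMap {g : GL (Fin 2 ⊕ Fin 2) F} (hg : g ∈ spGL 2 F) (v : Fin 5 → F) :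
    clif fr (conjMap fr g v) = mt g * clif fr v * mt g⁻¹ := by
  simp only [conjMap, LinearMap.comp_apply, LinearMap.mulLeft_apply, LinearMap.mulRight_apply, ← mul_assoc]
  refine clif_crd fr D hle ?_ ?_
  · show (mt g * clif fr v * mt g⁻¹)ᵀ * J (Fin 2) F = _
    have h1 := adj_eq ((spGL 2 F).inv_mem hg)
    rw [inv_inv] at h1
    rw [Matrix.transpose_mul, Matrix.transpose_mul, mul_assoc, mul_assoc, adj_eq hg, ← mul_assoc (clif fr v)ᵀ,
      show (clif fr v)ᵀ * J (Fin 2) F = _ from clif_SA fr D hle v, mul_assoc, ← mul_assoc (mt g⁻¹)ᵀ, h1]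
    simp [mul_assoc]
  · rw [Matrix.trace_mul_cycle, inv_val_mul, one_mul, trace_clif fr D]

theorem clif_inj {v w : Fin 5 → F} (h : clif fr v = clif fr w) : v = w := by
  rw [← crd_clif fr D v, h, crd_clif fr D]

theorem conjMap_mul {g k : GL (Fin 2 ⊕ Fin 2) F} (hg : g ∈ spGL 2 F) (hk : k ∈ spGL 2 F) :
    conjMap fr (g * k) = conjMap fr g ∘ₗ conjMap fr k := by
  refine LinearMap.ext fun v => clif_inj fr D hle ?_
  rw [LinearMap.comp_apply, clif_conjMap fr D hle ((spGL 2 F).mul_mem hg hk), clif_conjMap fr D hle hg,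
    clif_conjMap fr D hle hk, _root_.mul_inv_rev]
  show mt g * mt k * clif fr v * (mt k⁻¹ * mt g⁻¹) = _
  simp only [mul_assoc]

theorem conjMap_one : conjMap fr 1 = LinearMap.id := by
  refine LinearMap.ext fun v => clif_inj fr D hle ?_
  rw [clif_conjMap fr D hle (spGL 2 F).one_mem]
  simp

theorem q5_conjMap {g : GL (Fin 2 ⊕ Fin 2) F} (hg : g ∈ spGL 2 F) (v : Fin 5 → F) :
    q5 (conjMap fr g v) = q5 v := by
  refine smul_one_inj ?_
  rw [← clif_sq fr D, clif_conjMap fr D hle hg]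
  calc mt g * clif fr v * mt g⁻¹ * (mt g * clif fr v * mt g⁻¹)
      = mt g * (clif fr v * (mt g⁻¹ * mt g) * clif fr v) * mt g⁻¹ := by simp only [mul_assoc]
    _ = _ := by rw [inv_val_mul, mul_one, clif_sq fr D, mul_smul_comm, mul_one, smul_mul_assoc, mul_inv_val]

/-- `Sp₄` acts on the five-space by conjugation. -/
noncomputable def phi : spGL 2 F →* O (q5 (F := F)) :=
  MonoidHom.mk' (fun g => mkO (conjMap fr g) (conjMap fr (g : GL (Fin 2 ⊕ Fin 2) F)⁻¹)
    (by rw [← conjMap_mul fr D hle g.2 ((spGL 2 F).inv_mem g.2), mul_inv_cancel, conjMap_one fr D hle])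
    (by rw [← conjMap_mul fr D hle ((spGL 2 F).inv_mem g.2) g.2, inv_mul_cancel, conjMap_one fr D hle])
    (q5_conjMap fr D hle g.2)) fun g k => ext_app fun v => by
      rw [app_mul, app_mkO, app_mkO, app_mkO, Subgroup.coe_mul, conjMap_mul fr D hle g.2 k.2]; rfl

theorem clif_phi (g : spGL 2 F) (v : Fin 5 → F) :
    clif fr (app (phi fr D hle g) v) = mt (g : GL (Fin 2 ⊕ Fin 2) F) * clif fr v * mt (g : GL (Fin 2 ⊕ Fin 2) F)⁻¹ := by
  simp only [phi, MonoidHom.mk'_apply, app_mkO, clif_conjMap fr D hle g.2]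

/-- A scaled product of two vectors as an isometry, with its image. -/
theorem exists_pair {v w : Fin 5 → F} {s : F} (hs : s ≠ 0) (h : q5 v * q5 w = s * s) :
    ∃ y : spGL 2 F, mt (y : GL (Fin 2 ⊕ Fin 2) F) = s⁻¹ • (clif fr v * clif fr w) ∧
      phi fr D hle y = refl q5 v * refl q5 w := by
  have hv : q5 v ≠ 0 := fun e => hs (mul_self_eq_zero.1 (by rw [← h, e, zero_mul]))
  have hw : q5 w ≠ 0 := fun e => hs (mul_self_eq_zero.1 (by rw [← h, e, mul_zero]))
  have hmul : ∀ a b : Fin 5 → F, q5 a * q5 b = s * s →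
      (s⁻¹ • (clif fr a * clif fr b)) * (s⁻¹ • (clif fr b * clif fr a)) = 1 := fun a b hab => by
    rw [smul_mul_smul_comm, mul_assoc, ← mul_assoc (clif fr b) (clif fr b), clif_sq fr D, smul_mul_assoc, one_mul,
      mul_smul_comm, clif_sq fr D, smul_smul, smul_smul,
      show s⁻¹ * s⁻¹ * q5 b * q5 a = 1 by rw [mul_assoc, mul_comm (q5 b), hab]; field_simp, one_smul]
  set y : GL (Fin 2 ⊕ Fin 2) F := ⟨s⁻¹ • (clif fr v * clif fr w), s⁻¹ • (clif fr w * clif fr v), hmul v w h,
    hmul w v (by rw [mul_comm, h])⟩ with hy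
  have hySp : y ∈ spGL 2 F := by
    refine spGL_iff.2 ?_
    show (s⁻¹ • (clif fr v * clif fr w))ᵀ * J (Fin 2) F * (s⁻¹ • (clif fr v * clif fr w)) = _
    rw [Matrix.transpose_smul, Matrix.transpose_mul, smul_mul_assoc, mul_assoc (clif fr w)ᵀ,
      show (clif fr v)ᵀ * J (Fin 2) F = _ from clif_SA fr D hle v, ← mul_assoc,
      show (clif fr w)ᵀ * J (Fin 2) F = _ from clif_SA fr D hle w, mul_assoc (J (Fin 2) F), ← mul_smul_comm,
      mul_assoc, hmul w v (by rw [mul_comm, h]), mul_one]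
  refine ⟨⟨y, hySp⟩, rfl, ext_app fun x => clif_inj fr D hle ?_⟩
  have hrefl : ∀ u x : Fin 5 → F, q5 u ≠ 0 →
      clif fr u * clif fr x * clif fr u = (-q5 u) • clif fr (app (refl q5 u) x) := by
    intro u x hu
    have e : clif fr u * clif fr x = QuadraticMap.polar q5 x u • 1 - clif fr x * clif fr u := by
      rw [← clif_mul_add fr x u]; abel
    rw [e, sub_mul, mul_assoc, clif_sq fr D, app_refl, map_sub, map_smul, smul_mul_assoc, one_mul, mul_smul_comm,
      mul_one, smul_sub, smul_smul, neg_mul, ← mul_assoc, mul_inv_cancel₀ hu, one_mul, neg_smul, neg_smul]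
    abel
  rw [clif_phi, app_mul]
  show s⁻¹ • (clif fr v * clif fr w) * clif fr x * (s⁻¹ • (clif fr w * clif fr v)) = _
  calc s⁻¹ • (clif fr v * clif fr w) * clif fr x * (s⁻¹ • (clif fr w * clif fr v))
      = (s⁻¹ * s⁻¹) • (clif fr v * (clif fr w * clif fr x * clif fr w) * clif fr v) := by
        simp only [smul_mul_assoc, mul_smul_comm, smul_smul, mul_assoc]
    _ = _ := by
      rw [hrefl w x hw, mul_smul_comm, smul_mul_assoc, hrefl v _ hv, smul_smul, smul_smul]
      have e1 : s⁻¹ * s⁻¹ * -q5 w * -q5 v = 1 := by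
        rw [show s⁻¹ * s⁻¹ * -q5 w * -q5 v = s⁻¹ * s⁻¹ * (q5 v * q5 w) by ring, h]; field_simp
      rw [e1, one_smul]

/-- Only the signs act trivially. -/
theorem phi_ker {g : spGL 2 F} (hg : phi fr D hle g = 1) :
    mt (g : GL (Fin 2 ⊕ Fin 2) F) = 1 ∨ mt (g : GL (Fin 2 ⊕ Fin 2) F) = -1 := by
  set G := mt (g : GL (Fin 2 ⊕ Fin 2) F)
  have hc : ∀ i, Commute G (gen fr i) := fun i => by
    have h := clif_phi fr D hle g (Pi.single i 1)
    rw [hg, app_one] at h
    have e : clif fr (Pi.single i 1) = gen fr i := by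
      simp [clif, Fintype.linearCombination_apply_single]
    rw [e] at h
    show G * _ = _ * G
    conv_rhs => rw [h, mul_assoc, inv_val_mul, mul_one]
  have c0 : Commute G (mt fr.c) := by simpa [gen, idx, Frame.mono, pr] using hc 0
  have c1 : Commute G (mt fr.d) := by simpa [gen, idx, Frame.mono, pr] using hc 1
  have hcd : mt fr.c * mt fr.d * (mt fr.d * mt fr.c) = 1 := by
    rw [mul_assoc, ← mul_assoc (mt fr.d), fr.sdd, one_mul, fr.scc]
  have strip : ∀ M, Commute G (M * (mt fr.c * mt fr.d)) → Commute G M := fun M h => by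
    have h' := h.mul_right (c1.mul_right c0)
    rwa [mul_assoc, hcd, mul_one] at h'
  have ca : Commute G (mt fr.a) := strip _ (by simpa [gen, idx, Frame.mono, pr] using hc 2)
  have cb : Commute G (mt fr.b) := strip _ (by simpa [gen, idx, Frame.mono, pr] using hc 3)
  have hall : ∀ M ∈ Submodule.span F (Set.range fun p : Fin 4 × Fin 4 => fr.mono p.1 p.2), Commute G M := by
    intro M hM
    induction hM using Submodule.span_induction with
    | mem x hx =>
      obtain ⟨⟨q, q'⟩, rfl⟩ := hx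
      refine Commute.mul_right ?_ ?_
      · fin_cases q
        exacts [Commute.one_right _, ca, cb, ca.mul_right cb]
      · fin_cases q'
        exacts [Commute.one_right _, c0, c1, c0.mul_right c1]
    | zero => exact Commute.zero_right _
    | add x y _ _ hx hy => exact hx.add_right hy
    | smul a x _ hx => exact hx.smul_right a
  obtain ⟨t, ht⟩ := D.irr.2 G fun M _ => (hall M (by rw [fr.span D]; trivial)).eq
  have h2 := spGL_iff.1 g.2
  change Gᵀ * J (Fin 2) F * G = J (Fin 2) F at h2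
  rw [ht, Matrix.transpose_smul, Matrix.transpose_one, smul_mul_assoc, one_mul, mul_smul_comm, mul_one,
    smul_smul] at h2
  have h3 := congrArg (fun M => J (Fin 2) F * M) h2
  simp only [mul_smul_comm, Matrix.J_squared, smul_neg, neg_inj] at h3
  have e := smul_one_inj (h3.trans (one_smul F _).symm)
  rw [ht]
  rcases mul_self_eq_one_iff.1 e with rfl | rfl
  · exact Or.inl (one_smul F _)
  · exact Or.inr (neg_one_smul F _)

omit hle in
theorem isFrame : CfsgLib.GeomClasses.Frame.IsFrame (q5 (F := F)) (fun i : Fin 5 => Pi.single i 1) 1 where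
  nondeg := by
    refine ⟨fun v hv => funext fun i => ?_, fun v hv => funext fun i => ?_⟩
    · have := hv (Pi.single i 1)
      simpa [polar_q5, D.two, Pi.single_apply] using this
    · have := hv (Pi.single i 1)
      simpa [polar_q5, D.two, Pi.single_apply] using this
  two := D.two
  c_ne := one_ne_zero
  val i := by simp [q5_apply, Pi.single_apply]
  orth i j hij := by
    rw [polar_q5, Finset.sum_eq_zero fun x _ => ?_, mul_zero]
    rcases eq_or_ne x i with rfl | hx
    · simp [hij]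
    · simp [Pi.single_apply, hx]
  card_eq := Fintype.card_fin 5

omit hle in
theorem co_eq (i : Fin 5) (v : Fin 5 → F) :
    CfsgLib.GeomClasses.Frame.co q5 (fun i : Fin 5 => (Pi.single i 1 : Fin 5 → F)) 1 i v = v i := by
  simp [CfsgLib.GeomClasses.Frame.co, CfsgLib.GeomClasses.Frame.ip, polar_q5, Pi.single_apply, D.two]

end CfsgLib.Sp4Odd
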