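import Cfsg.Agent.Lib.Sp4Odd.CliffordFive
import Cfsg.Agent.Lib.Sp4Odd.FrameFiveAll

/-!
The normaliser of an extraspecial group of order 32 of minus type is maximal in `Sp₄` over an odd prime field.
-/

set_option autoImplicit false
set_option linter.unusedSectionVars false

namespace CfsgLib.Sp4Odd

open Matrix Cfsg CfsgLib.Orth CfsgLib.PrimeElusive.SymplType CfsgLib.GeomClasses.Frame

open scoped MatrixGroups

variable {F : Type*} [Field F] {R : Subgroup (GL (Fin 2 ⊕ Fin 2) F)} (fr : PrimeElusive.SymplType.Frame R)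
  (D : Data R 2) (hle : R ≤ spGL 2 F)

local notation "bs" => (fun i : Fin 5 => (Pi.single i 1 : Fin 5 → F))

include fr D

theorem clif_single (i : Fin 5) : clif fr (Pi.single i 1) = gen fr i := by
  simp [clif, Fintype.linearCombination_apply_single]

theorem exists_neg_one : ∃ e ∈ R, mt e = -1 := ⟨fr.a * fr.a, R.mul_mem fr.ha fr.ha, fr.saa⟩

/-- An element of the group in the five-space is a frame vector up to sign. -/
theorem single_of_mem {r : GL (Fin 2 ⊕ Fin 2) F} (hr : r ∈ R) {w : Fin 5 → F} (e : mt r = clif fr w) (hq : q5 w = 1) :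
    ∃ j, w = Pi.single j 1 ∨ w = -Pi.single j 1 := by
  obtain ⟨j, hj⟩ : ∃ j, w j ≠ 0 := by
    by_contra hno
    push Not at hno
    rw [q5_apply, Finset.sum_eq_zero fun i _ => by rw [hno i, mul_zero]] at hq
    exact zero_ne_one hq
  obtain ⟨x, hx, ex⟩ := fr.mono_mem (idx j).1 (idx j).2
  have hpol : QuadraticMap.polar q5 w (Pi.single j 1) = 2 * w j := by simp [polar_q5, Pi.single_apply]
  have hsum := clif_mul_add fr w (Pi.single j 1)
  rw [hpol, clif_single fr D, ← e, show gen fr j = mt x from ex.symm] at hsum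
  rcases D.sgn r hr x hx with h | h
  · refine ⟨j, ?_⟩
    have h' : mt r * mt x = mt x * mt r := cm h
    rw [← h', ← two_smul F, mul_smul] at hsum
    have h1 : mt r * mt x = w j • 1 := smul_right_injective _ D.two hsum
    have h2 : mt r = w j • mt x := by
      have hxx : mt x * mt x = 1 := by
        show mt x * mt x = 1
        rw [ex, ← show gen fr j = fr.mono (idx j).1 (idx j).2 from rfl]
        have := gen_mul_add fr j j
        rw [if_pos rfl, ← two_smul F] at this
        exact smul_right_injective _ D.two this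
      rw [← mul_one (mt r), ← hxx, ← mul_assoc, h1, smul_mul_assoc, one_mul]
    rw [e, ex, ← show gen fr j = fr.mono (idx j).1 (idx j).2 from rfl, ← clif_single fr D, ← map_smul] at h2
    have hw := (congrArg (crd fr) h2)
    rw [crd_clif fr D, crd_clif fr D] at hw
    rw [hw] at hq
    rw [QuadraticMap.map_smul, q5_apply] at hq
    simp [Pi.single_apply] at hq
    rcases mul_self_eq_one_iff.1 hq with e1 | e1 <;> rw [e1] at hw
    · exact Or.inl (by simpa using hw)
    · exact Or.inr (by simpa using hw)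
  · exfalso
    rw [show mt r * mt x = _ from h, neg_add_cancel, eq_comm] at hsum
    exact hj ((mul_eq_zero.1 (smul_one_inj (hsum.trans (zero_smul F _).symm))).resolve_left D.two)

include hle

/-- The normaliser is the preimage of the signed permutations. -/
theorem mem_normalizer_iff_mono (g : spGL 2 F) :
    (g : GL (Fin 2 ⊕ Fin 2) F) ∈ Cfsg.Geo.subgroupNormalizer R ↔ Mono bs (phi fr D hle g) := by
  have hgen : ∀ i, ∃ x ∈ R, mt x = gen fr i := fun i => fr.mono_mem _ _
  constructor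
  · intro hg i
    obtain ⟨x, hx, ex⟩ := hgen i
    have hr : (g : GL (Fin 2 ⊕ Fin 2) F) * x * (g : GL (Fin 2 ⊕ Fin 2) F)⁻¹ ∈ R :=
      (Subgroup.mem_normalizer_iff.1 hg x).1 hx
    refine single_of_mem fr D hr ?_ (by rw [Q_app]; exact (isFrame D).val i)
    rw [clif_phi, clif_single fr D, ← ex]
    rfl
  · intro hg
    have key : ∀ x ∈ R, ∀ i, mt x = gen fr i →
        (g : GL (Fin 2 ⊕ Fin 2) F) * x * (g : GL (Fin 2 ⊕ Fin 2) F)⁻¹ ∈ R := by
      intro x _ i ex
      obtain ⟨j, hj⟩ := hg i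
      obtain ⟨y, hy, ey⟩ := hgen j
      obtain ⟨e, he, ee⟩ := exists_neg_one fr D
      have h1 : mt ((g : GL (Fin 2 ⊕ Fin 2) F) * x * (g : GL (Fin 2 ⊕ Fin 2) F)⁻¹) =
          clif fr (app (phi fr D hle g) (bs i)) := by
        rw [clif_phi, clif_single fr D, ← ex]; rfl
      rcases hj with hj | hj <;> rw [hj] at h1
      · rw [clif_single fr D, ← ey] at h1
        exact Units.ext h1 ▸ hy
      · rw [map_neg, clif_single fr D, ← ey] at h1
        rw [show (g : GL (Fin 2 ⊕ Fin 2) F) * x * (g : GL (Fin 2 ⊕ Fin 2) F)⁻¹ = e * y from Units.ext (by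
          rw [Units.val_mul e y]
          show PrimeElusive.SymplType.mt _ = PrimeElusive.SymplType.mt e * PrimeElusive.SymplType.mt y
          rw [h1, ee, neg_one_mul])]
        exact R.mul_mem he hy
    have hc := key fr.c fr.hc 0 (by simp [gen, idx, PrimeElusive.SymplType.Frame.mono, pr])
    have hd := key fr.d fr.hd 1 (by simp [gen, idx, PrimeElusive.SymplType.Frame.mono, pr])
    have ha := key (fr.a * (fr.c * fr.d)) (R.mul_mem fr.ha (R.mul_mem fr.hc fr.hd)) 2
      (by simp [gen, idx, PrimeElusive.SymplType.Frame.mono, pr, PrimeElusive.SymplType.mt])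
    have hb := key (fr.b * (fr.c * fr.d)) (R.mul_mem fr.hb (R.mul_mem fr.hc fr.hd)) 3
      (by simp [gen, idx, PrimeElusive.SymplType.Frame.mono, pr, PrimeElusive.SymplType.mt])
    refine fr.mem_normalizer D ?_ ?_ hc hd
    · have := R.mul_mem ha (R.inv_mem (R.mul_mem hc hd))
      convert this using 1
      group
    · have := R.mul_mem hb (R.inv_mem (R.mul_mem hc hd))
      convert this using 1
      group

theorem hasGens {M : Subgroup (GL (Fin 2 ⊕ Fin 2) F)} (hM : Cfsg.Geo.subgroupNormalizer R ⊓ spGL 2 F ≤ M) :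
    HasGens bs ((M.subgroupOf (spGL 2 F)).map (phi fr D hle)) := by
  have h := isFrame (F := F) D
  have put : ∀ v w : Fin 5 → F, ∀ s : F, s ≠ 0 → q5 v * q5 w = s * s → Mono bs (refl q5 v) → Mono bs (refl q5 w) →
      refl q5 v * refl q5 w ∈ (M.subgroupOf (spGL 2 F)).map (phi fr D hle) := by
    intro v w s hs he hv hw
    obtain ⟨y, -, hy⟩ := exists_pair fr D hle hs he
    rw [← hy]
    refine Subgroup.mem_map_of_mem _ (Subgroup.mem_subgroupOf.2 (hM ⟨?_, y.2⟩))
    show (y : GL (Fin 2 ⊕ Fin 2) F) ∈ Cfsg.Geo.subgroupNormalizer R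
    rw [mem_normalizer_iff_mono fr D hle y, hy]
    exact mono_mul hv hw
  refine ⟨fun i j _ => put _ _ 1 one_ne_zero (by rw [h.val, h.val]) (h.mono_refl_b i) (h.mono_refl_b j),
    fun i j k l hij hkl => put _ _ 2 D.two ?_ (h.mono_swap hij) (h.mono_swap hkl)⟩
  rw [h.q_diff hij, h.q_diff hkl, mul_one]

variable [Finite F] (p : ℕ) [Fact p.Prime] [CharP F p] (hcard : Nat.card F = p)
include hcard

/-- The normaliser is maximal. -/
theorem maximal_normalizer :
    Cfsg.Geo.IsMaximalIn (spGL 2 F) (Cfsg.Geo.subgroupNormalizer R ⊓ spGL 2 F) := by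
  classical
  have := Fintype.ofFinite F
  have h := isFrame (F := F) D
  refine ⟨lt_of_le_of_ne inf_le_right fun heq => ?_, fun M hHM hMK => ?_⟩
  · set v : Fin 2 ⊕ Fin 2 → F := Pi.single (Sum.inl 0) 1 with hv
    have hv0 : v ≠ 0 := by simp [hv, Pi.single_eq_zero_iff]
    have hp2 : p ≠ 2 := by
      rintro rfl
      exact D.two (by exact_mod_cast CharP.cast_eq_zero F 2)
    have hwv : (J (Fin 2) F *ᵥ v) ⬝ᵥ v = 0 := by rw [dotProduct_comm]; exact CfsgLib.Sp.sympForm_self v
    have hw0 : J (Fin 2) F *ᵥ v ≠ 0 := fun e => hv0 (by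
      have := congrArg (fun u => J (Fin 2) F *ᵥ u) e
      simpa [Matrix.mulVec_mulVec, Matrix.J_squared, Matrix.neg_mulVec] using this)
    obtain ⟨x, hx, hxp, -, hxs⟩ := exists_transvection p hwv hv0 hw0
    have hxSp : x ∈ spGL 2 F := by
      have := CfsgLib.Sp.sympTransvection_mem v (1 : F)
      rw [sympTransvection, one_smul, ← hx] at this
      exact CfsgLib.Sp.mem_symplecticGroup_iff.1 this
    rw [← heq] at hxSp
    refine D.not_transvection hp2 hxp hxs hwv hx 1 ?_
    simpa [Cfsg.Geo.subgroupNormalizer] using hxSp.1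
  by_cases hMH : M ≤ Cfsg.Geo.subgroupNormalizer R ⊓ spGL 2 F
  · exact Or.inl (le_antisymm hMH hHM)
  refine Or.inr (le_antisymm hMK ?_)
  obtain ⟨g, hgM, hgN⟩ := SetLike.not_le_iff_exists.1 hMH
  set M' := M.subgroupOf (spGL 2 F) with hM'
  have hX := hasGens fr D hle hHM
  have hgX : phi fr D hle ⟨g, hMK hgM⟩ ∈ M'.map (phi fr D hle) := Subgroup.mem_map_of_mem _ hgM
  have hall := h.unit_phi hX p (by rw [← hcard, Nat.card_eq_fintype_card]) rfl hgX fun hm =>
    hgN ⟨(mem_normalizer_iff_mono fr D hle ⟨g, hMK hgM⟩).2 hm, hMK hgM⟩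
  -- the products of two units
  set T : Set (spGL 2 F) := {y | ∃ v w, q5 v = 1 ∧ q5 w = 1 ∧ phi fr D hle y = refl q5 v * refl q5 w} with hT
  have hTM : T ⊆ M' := by
    rintro y ⟨v, w, hv, hw, hy⟩
    obtain ⟨m, hm, hme⟩ := phi_pair (hall v hv) (hall w hw) 0
    rw [← hy] at hme
    have hk : phi fr D hle (m⁻¹ * y) = 1 := by rw [map_mul, map_inv, hme, inv_mul_cancel]
    obtain ⟨e, he, ee⟩ := exists_neg_one fr D
    have hkM : m⁻¹ * y ∈ M' := by
      rcases phi_ker fr D hle hk with e1 | e1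
      · rw [show m⁻¹ * y = 1 from Subtype.ext (Units.ext e1)]; exact M'.one_mem
      · refine Subgroup.mem_subgroupOf.2 (hHM ⟨?_, (m⁻¹ * y).2⟩)
        rw [show ((m⁻¹ * y : spGL 2 F) : GL (Fin 2 ⊕ Fin 2) F) = e from Units.ext (e1.trans ee.symm)]
        exact Subgroup.le_normalizer he
    have := M'.mul_mem hm hkM
    rwa [mul_inv_cancel_left] at this
  have hconj : Group.conjugatesOfSet T ⊆ T := by
    intro z hz
    obtain ⟨y, ⟨v, w, hv, hw, hy⟩, hyz⟩ := Group.mem_conjugatesOfSet_iff.1 hz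
    obtain ⟨k, rfl⟩ := isConj_iff.1 hyz
    refine ⟨app (phi fr D hle k) v, app (phi fr D hle k) w, by rw [Q_app, hv], by rw [Q_app, hw], ?_⟩
    rw [map_mul, map_mul, map_inv, hy, ← refl_conj, ← refl_conj]; group
  have hnc : Subgroup.normalClosure T ≤ M' := (Subgroup.closure_le _).2 (hconj.trans hTM)
  set N := (Subgroup.normalClosure T).comap (CfsgLib.Sp.spEquiv 2 F).toMonoidHom with hNdef
  have hperf : commutator (symplecticGroup (Fin 2) F) = ⊤ :=
    CfsgLib.Sp.commutator_eq_top_of_card (Nat.card_eq_fintype_card.symm.trans hcard) (by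
      have := (Fact.out : p.Prime).two_le
      have hp2 : p ≠ 2 := by
        rintro rfl
        exact D.two (by exact_mod_cast CharP.cast_eq_zero F 2)
      omega)
  rcases CfsgLib.Sp.normal_le_center_or_eq_top hperf N with hN | hN
  · exfalso
    obtain ⟨y, hyv, hy⟩ := exists_pair fr D hle (v := bs 0) (w := bs 1) one_ne_zero (by rw [h.val, h.val])
    obtain ⟨y', hyv', hy'⟩ := exists_pair fr D hle (v := bs 0) (w := bs 2) one_ne_zero (by rw [h.val, h.val])
    have hyN : (CfsgLib.Sp.spEquiv 2 F).symm y ∈ N := by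
      rw [hNdef, Subgroup.mem_comap, MulEquiv.coe_toMonoidHom, MulEquiv.apply_symm_apply]
      exact Subgroup.subset_normalClosure ⟨_, _, h.val 0, h.val 1, hy⟩
    have hcom := congrArg (CfsgLib.Sp.spEquiv 2 F)
      (Subgroup.mem_center_iff.1 (hN hyN) ((CfsgLib.Sp.spEquiv 2 F).symm y'))
    rw [map_mul, map_mul, MulEquiv.apply_symm_apply, MulEquiv.apply_symm_apply] at hcom
    refine Anti.not_commute D.two (g := (y' : GL (Fin 2 ⊕ Fin 2) F)) (h := (y : GL (Fin 2 ⊕ Fin 2) F)) ?_
      (congrArg Subtype.val hcom)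
    show mt (y' : GL (Fin 2 ⊕ Fin 2) F) * mt (y : GL (Fin 2 ⊕ Fin 2) F) =
      -(mt (y : GL (Fin 2 ⊕ Fin 2) F) * mt (y' : GL (Fin 2 ⊕ Fin 2) F))
    rw [hyv, hyv', inv_one, one_smul, one_smul, clif_single fr D, clif_single fr D, clif_single fr D]
    have sw : ∀ i j : Fin 5, i ≠ j → gen fr i * gen fr j = -(gen fr j * gen fr i) := fun i j hij =>
      eq_neg_of_add_eq_zero_left (by rw [gen_mul_add, if_neg hij])
    rw [← mul_assoc, mul_assoc (gen fr 0), sw 2 0 (by decide), mul_neg, ← mul_assoc, neg_mul, mul_assoc _ (gen fr 2),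
      sw 2 1 (by decide), mul_neg, neg_neg, ← mul_assoc, ← mul_assoc, mul_assoc (gen fr 0) (gen fr 1),
      sw 1 0 (by decide)]
    simp only [mul_assoc, mul_neg, neg_neg, neg_mul]
  · intro x hx
    have : (⟨x, hx⟩ : spGL 2 F) ∈ Subgroup.normalClosure T := by
      have := hN ▸ Subgroup.mem_top ((CfsgLib.Sp.spEquiv 2 F).symm ⟨x, hx⟩)
      rw [hNdef, Subgroup.mem_comap, MulEquiv.coe_toMonoidHom, MulEquiv.apply_symm_apply] at this
      exact this
    exact hnc this

omit fr D hle in
omit [Fact p.Prime] [CharP F p] hcard in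
/-- The extraspecial class of the symplectic group in dimension four. -/
theorem maximal_extraspecial [Fintype F] (hodd : Odd (Fintype.card F)) (p : ℕ)
    (R : Subgroup (GL (Fin 2 ⊕ Fin 2) F)) (hp : p.Prime) (hF : Fintype.card F = p)
    (hs : Cfsg.Geo.IsSymplecticTypeGroup 2 R)
    (hi : Cfsg.Geo.ActsAbsolutelyIrreducibly (Cfsg.Geo.matrixSet R)) (hle : R ≤ spGL 2 F) (hc : Nat.card R = 32)
    (hz : Nat.card (Subgroup.center R) = 2) (hm : Cfsg.Geo.IsOfMinusType 2 R) :
    Cfsg.Geo.IsMaximalIn (spGL 2 F) (Cfsg.Geo.subgroupNormalizer R ⊓ spGL 2 F) := by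
  have : Fact p.Prime := ⟨hp⟩
  have : CharP F p := by
    obtain ⟨n, hr, hn⟩ := FiniteField.card F (ringChar F)
    have hpr : ringChar F = p := by
      rw [hF] at hn
      exact ((Nat.prime_dvd_prime_iff_eq hr hp).1 (hn ▸ dvd_pow_self _ (PNat.ne_zero n)))
    exact hpr ▸ ringChar.charP F
  have h2 : (2 : F) ≠ 0 := fun e => by
    have := (CharP.cast_eq_zero_iff F p 2).1 (by exact_mod_cast e)
    rw [hF] at hodd
    have := (Nat.prime_dvd_prime_iff_eq hp Nat.prime_two).1 this
    subst this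
    exact absurd hodd (by decide)
  have D : Data R 2 := data_of_symplecticType (by simp) h2 hs hi (by omega) hz two_pos
  obtain ⟨fr⟩ := D.frame_minus hm
  exact maximal_normalizer fr D hle p (by rw [Nat.card_eq_fintype_card, hF])

end CfsgLib.Sp4Odd
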