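import Cfsg.Agent.Lib.Sp4Odd.AxisCount

/-!
Reflection closed sets of unit vectors of a three-dimensional quadratic space containing two orthogonal axes: with
a vector off the coordinate planes there is a rotation of order `p`, or the third axis carries a member, or the
vector is half on both axes.
-/

set_option autoImplicit false
set_option linter.unusedSectionVars false

namespace CfsgLib.Sp4Odd

open Matrix CfsgLib.GeomClasses.SphereThree

attribute [local instance] CfsgLib.GeomClasses.SphereThree.lineAction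

variable {F : Type*} [Field F] [Finite F] {N : F}

/-- A reflection closed set of unit vectors containing the first two axes. -/
structure IsFlipSet (N : F) (R : Set (Fin 3 → F)) : Prop where
  unit : ∀ f ∈ R, ip3 N f f = 1
  refl : ∀ f ∈ R, ∀ g ∈ R, g - (2 * ip3 N g f) • f ∈ R
  neg : ∀ f ∈ R, -f ∈ R
  e₀ : ![1, 0, 0] ∈ R
  e₁ : ![0, 1, 0] ∈ R

theorem arith_even {M o₁ c₁ o₂ c₂ o₃ c₃ : ℕ} (h1 : o₁ * c₁ = M) (h2 : o₂ * c₂ = M) (h3 : o₃ * c₃ = M)
    (hs : o₁ + o₂ + o₃ = M + 1) (d1 : 2 ∣ c₁) (d2 : 2 ∣ c₂) (d3 : 2 ∣ c₃) (hc1 : 2 ≤ c₁) (hc2 : 2 ≤ c₂)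
    (hc3 : 2 ≤ c₃) : o₁ = 1 ∨ o₂ = 1 ∨ o₃ = 1 := by
  obtain ⟨a₁, rfl⟩ := d1
  obtain ⟨a₂, rfl⟩ := d2
  obtain ⟨a₃, rfl⟩ := d3
  have b1 : 1 ≤ a₁ := by omega
  have b2 : 1 ≤ a₂ := by omega
  have b3 : 1 ≤ a₃ := by omega
  rcases (show a₁ = 1 ∧ a₂ = 1 ∨ a₁ = 1 ∧ a₃ = 1 ∨ a₂ = 1 ∧ a₃ = 1 ∨ 2 ≤ a₁ ∧ 2 ≤ a₂ ∨ 2 ≤ a₁ ∧ 2 ≤ a₃ ∨
      2 ≤ a₂ ∧ 2 ≤ a₃ by omega) with
    ⟨rfl, rfl⟩ | ⟨rfl, rfl⟩ | ⟨rfl, rfl⟩ | ⟨e, e'⟩ | ⟨e, e'⟩ | ⟨e, e'⟩
  · right; right; omega
  · right; left; omega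
  · left; omega
  all_goals
    exfalso
    have := Nat.mul_le_mul_left o₁ b1
    have := Nat.mul_le_mul_left o₂ b2
    have := Nat.mul_le_mul_left o₃ b3
    first
    | nlinarith [Nat.mul_le_mul_left o₁ e, Nat.mul_le_mul_left o₂ e']
    | nlinarith [Nat.mul_le_mul_left o₁ e, Nat.mul_le_mul_left o₃ e']
    | nlinarith [Nat.mul_le_mul_left o₂ e, Nat.mul_le_mul_left o₃ e']

theorem arith_two_even {M o₁ c₁ o₂ c₂ o₃ c₃ : ℕ} (h1 : o₁ * c₁ = M) (h2 : o₂ * c₂ = M) (h3 : o₃ * c₃ = M)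
    (hs : o₁ + o₂ + o₃ = M + 1) (d1 : 2 ∣ c₁) (d2 : 2 ∣ c₂) (hc1 : 2 ≤ c₁) (hc2 : 2 ≤ c₂) (hc3 : 2 ≤ c₃) :
    o₁ = 1 ∨ o₂ = 1 ∨ o₃ = 1 ∨ o₁ = 3 ∨ (o₂ = 3 ∧ c₂ = 4) := by
  obtain ⟨a₁, rfl⟩ := d1
  obtain ⟨a₂, rfl⟩ := d2
  have key : ∀ u v w a c : ℕ, u * 2 = M → v * (2 * a) = M → w * c = M → u + v + w = M + 1 → 1 ≤ a → 2 ≤ c →
      w = 1 ∨ v = 1 ∨ (v = 3 ∧ 2 * a = 4) := by
    intro u v w a c e1 e2 e3 es ha hc
    rcases (show a = 1 ∨ 2 ≤ a by omega) with rfl | ha2
    · left; omega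
    rcases (show c = 2 ∨ c = 3 ∨ 4 ≤ c by omega) with rfl | rfl | hc4
    · right; left; omega
    · rcases (show a = 2 ∨ 3 ≤ a by omega) with rfl | ha3
      · right; right; omega
      · exfalso; nlinarith [Nat.mul_le_mul_left v ha3]
    · exfalso; nlinarith [Nat.mul_le_mul_left v ha2, Nat.mul_le_mul_left w hc4]
  rcases (show a₁ = 1 ∨ a₂ = 1 ∨ 2 ≤ a₁ ∧ 2 ≤ a₂ by omega) with rfl | rfl | ⟨e, e'⟩
  · rcases key o₁ o₂ o₃ a₂ c₃ (by omega) h2 h3 hs (by omega) hc3 with h | h | h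
    · exact Or.inr (Or.inr (Or.inl h))
    · exact Or.inr (Or.inl h)
    · exact Or.inr (Or.inr (Or.inr (Or.inr h)))
  · rcases key o₂ o₁ o₃ a₁ c₃ (by omega) h1 h3 (by omega) (by omega) hc3 with h | h | ⟨h, -⟩
    · exact Or.inr (Or.inr (Or.inl h))
    · exact Or.inl h
    · exact Or.inr (Or.inr (Or.inr (Or.inl h)))
  · exfalso
    nlinarith [Nat.mul_le_mul_left o₁ e, Nat.mul_le_mul_left o₂ e', Nat.mul_le_mul_left o₃ hc3]

variable {R : Set (Fin 3 → F)} (hR : IsFlipSet N R)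
include hR

theorem exists_halfTurn {f : Fin 3 → F} (hf : f ∈ R) :
    ∃ g ∈ rotGroup N R, (g : Matrix (Fin 3) (Fin 3) F) = halfTurn N f := by
  have hr := halfTurn_rot (hR.unit f hf)
  refine ⟨Matrix.GeneralLinearGroup.mkOfDetNeZero (halfTurn N f) (by rw [hr.2]; exact one_ne_zero),
    ⟨hr, fun x hx => ?_⟩, rfl⟩
  change halfTurn N f *ᵥ x ∈ R
  rw [halfTurn_mulVec, ← neg_sub]
  exact hR.neg _ (hR.refl f hf x hx)

omit hR in
/-- An element maps a vector of its fixed line to itself or its negative. -/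
theorem rot_sign (h : rotGroup N R) (v : Fin 3 → F) (hv : ip3 N v v ≠ 0)
    (he : h • Submodule.span F {v} = Submodule.span F {v}) :
    ((h : GL (Fin 3) F) : Matrix (Fin 3) (Fin 3) F) *ᵥ v = v ∨
      ((h : GL (Fin 3) F) : Matrix (Fin 3) (Fin 3) F) *ᵥ v = -v := by
  have he' : (h : GL (Fin 3) F) • Submodule.span F {v} = Submodule.span F {v} := he
  rw [smul_span] at he'
  obtain ⟨s, hs⟩ := scalar_of_mem_span (he' ▸ Submodule.mem_span_singleton_self _)
  have hk := h.2.1.1 v v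
  rw [← hs, ip3_smul_left, ip3_smul_right] at hk
  have : s * s = 1 := by
    refine mul_right_cancel₀ hv ?_
    rw [one_mul]; linear_combination hk
  rcases mul_self_eq_one_iff.1 this with rfl | rfl
  · left; rw [← hs, one_smul]
  · right; rw [← hs, neg_one_smul]

omit hR in
/-- The rotations about a line have index at most two in its stabiliser. -/
theorem rot_index (h2 : (2 : F) ≠ 0) (v : Fin 3 → F) (hv : ip3 N v v ≠ 0) :
    (fixing (rotGroup N R) (Submodule.span F {v})).relIndex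
      (MulAction.stabilizer (rotGroup N R) (Submodule.span F {v})) ≤ 2 := by
  have hsign := rot_sign (N := N) (R := R)
  have hne0 : ∀ v : Fin 3 → F, ip3 N v v ≠ 0 → v ≠ 0 := fun v hv e => hv (by rw [e, ip3_zero_left])
  set H := rotGroup N R
  set C := (fixing H (Submodule.span F {v})).subgroupOf (MulAction.stabilizer H (Submodule.span F {v}))
  have hmem : ∀ g : MulAction.stabilizer H (Submodule.span F {v}), g ∈ C ↔
      (((g : H) : GL (Fin 3) F) : Matrix (Fin 3) (Fin 3) F) *ᵥ v = v := fun g => by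
    refine ⟨fun hg => hg v (Submodule.mem_span_singleton_self v), fun hg x hx => ?_⟩
    obtain ⟨s, rfl⟩ := scalar_of_mem_span hx
    rw [mulVec_smul]
    exact congrArg (s • ·) hg
  by_cases hall : ∀ g, g ∈ C
  · have : C.index = 1 := Subgroup.index_eq_one.2 ((Subgroup.eq_top_iff' C).2 hall)
    exact le_of_eq_of_le this one_le_two
  · push Not at hall
    obtain ⟨a, ha⟩ := hall
    refine le_of_eq (Subgroup.index_eq_two_iff.2 ⟨a, fun g => ?_⟩)
    have hav := (hsign a v hv a.2).resolve_left fun e => ha ((hmem a).2 e)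
    have hga : (((g * a : MulAction.stabilizer H (Submodule.span F {v})) : H) : GL (Fin 3) F).val *ᵥ v =
        -((((g : H) : GL (Fin 3) F) : Matrix (Fin 3) (Fin 3) F) *ᵥ v) := by
      simp only [Subgroup.coe_mul, Units.val_mul, ← mulVec_mulVec, hav, mulVec_neg]
    by_cases hg : g ∈ C
    · refine Or.inr ⟨hg, fun hga' => hne0 v hv ?_⟩
      have h1 := (hmem _).1 hga'
      rw [hga, (hmem g).1 hg] at h1
      exact (smul_eq_zero.1 (show (2 : F) • v = 0 by
        rw [two_smul]; exact add_eq_zero_iff_eq_neg.2 h1.symm)).resolve_left h2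
    · refine Or.inl ⟨(hmem _).2 ?_, hg⟩
      rw [hga, (hsign g v hv g.2).resolve_left fun e => hg ((hmem g).2 e), neg_neg]

omit hR in
/-- Without an element of order `p` every rotation has an anisotropic axis. -/
theorem rot_axis (p : ℕ) [Fact p.Prime] [CharP F p] (h2 : (2 : F) ≠ 0) (hN : N ≠ 0)
    (hno : ∀ g ∈ rotGroup N R, g ≠ 1 → (g : Matrix (Fin 3) (Fin 3) F) ^ p ≠ 1) (h : rotGroup N R) (hh1 : h ≠ 1) :
    ∃ v, ip3 N v v ≠ 0 ∧ axis (h : GL (Fin 3) F) = Submodule.span F {v} := by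
  have hM : IsRot N ((h : GL (Fin 3) F) : Matrix (Fin 3) (Fin 3) F) := h.2.1
  have hne : ((h : GL (Fin 3) F) : Matrix (Fin 3) (Fin 3) F) ≠ 1 := fun e =>
    hh1 (Subtype.ext (Units.ext e))
  have h1 : ¬ ∀ v, ((h : GL (Fin 3) F) : Matrix (Fin 3) (Fin 3) F) *ᵥ v = v → ip3 N v v = 0 := fun hnf =>
    hno (h : GL (Fin 3) F) h.2 (fun e => hh1 (Subtype.ext e)) (pow_eq_one_of_isotropic h2 hN p hM hnf)
  push Not at h1
  obtain ⟨v, hMv, hv⟩ := h1
  refine ⟨v, hv, le_antisymm (fun x hx => ?_) ((Submodule.span_singleton_le_iff_mem _ _).2 (mem_axis.2 hMv))⟩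
  rw [mem_span_of_fixed h2 hN hM hne hv hMv (mem_axis.1 hx)]
  exact Submodule.smul_mem _ _ (Submodule.mem_span_singleton_self v)

omit hR in
/-- An axis fixed by the half turns about two coordinate axes is a coordinate axis. -/
theorem klein_fixed (p : ℕ) [Fact p.Prime] [CharP F p] (h2 : (2 : F) ≠ 0) (hN : N ≠ 0)
    (hno : ∀ g ∈ rotGroup N R, g ≠ 1 → (g : Matrix (Fin 3) (Fin 3) F) ^ p ≠ 1) (t₀ t₁ : rotGroup N R)
    (act₀ : ∀ v : Fin 3 → F, ((t₀ : GL (Fin 3) F) : Matrix (Fin 3) (Fin 3) F) *ᵥ v = ![v 0, -v 1, -v 2])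
    (act₁ : ∀ v : Fin 3 → F, ((t₁ : GL (Fin 3) F) : Matrix (Fin 3) (Fin 3) F) *ᵥ v = ![-v 0, v 1, -v 2])
    (a : Submodule F (Fin 3 → F)) (ha : IsAxis (rotGroup N R) a) (h0 : t₀ • a = a) (h1 : t₁ • a = a) :
    ∃ k : Fin 3, a = Submodule.span F {(Pi.single k 1 : Fin 3 → F)} := by
  obtain ⟨h, hh, rfl⟩ := ha
  have hne0 : ∀ v : Fin 3 → F, ip3 N v v ≠ 0 → v ≠ 0 := fun v hv e => hv (by rw [e, ip3_zero_left])
  have hax' := rot_axis (N := N) (R := R) p h2 hN hno
  have hsign := rot_sign (N := N) (R := R)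
  obtain ⟨v, hv, hsp⟩ := hax' h hh
  rw [hsp] at h0 h1 ⊢
  have ext3 : ∀ k, (∀ l, l ≠ k → v l = 0) → ∃ k, Submodule.span F {v} = Submodule.span F {(Pi.single k 1 : Fin 3 → F)} := fun k hk => ⟨k, by
    refine span_eq_of_mem (hne0 v hv) (Submodule.mem_span_singleton.2 ⟨v k, ?_⟩)
    ext i
    by_cases hi : i = k
    · subst hi; simp
    · simp [hi, hk i hi]⟩
  have two0 : ∀ x : F, -x = x → x = 0 := fun x h =>
    (mul_eq_zero.1 (show 2 * x = 0 by linear_combination -h)).resolve_left h2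
  rcases hsign t₀ v hv h0 with a0 | a0 <;> rw [act₀] at a0
  · have := congrFun a0 1; have := congrFun a0 2
    exact ext3 0 fun l hl => by fin_cases l <;> simp_all
  · have v0 : v 0 = 0 := by have := congrFun a0 0; simp at this; exact two0 _ this.symm
    rcases hsign t₁ v hv h1 with a1 | a1 <;> rw [act₁] at a1
    · have v2 := two0 (v 2) (by simpa using congrFun a1 2)
      exact ext3 1 fun l hl => by fin_cases l <;> first | exact v0 | exact v2 | exact absurd rfl hl
    · have v1 : v 1 = 0 := by have := congrFun a1 1; simp at this; exact two0 _ this.symm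
      exact ext3 2 fun l hl => by fin_cases l <;> first | exact v0 | exact v1 | exact absurd rfl hl

set_option maxHeartbeats 3000000 in
/-- The trichotomy. -/
theorem flip_cases (p : ℕ) [Fact p.Prime] [CharP F p] (h2 : (2 : F) ≠ 0) (hN : N ≠ 0) {f : Fin 3 → F}
    (hf : f ∈ R) (hx : f 0 ≠ 0) (hy : f 1 ≠ 0) (hz : f 2 ≠ 0) :
    (∃ g ∈ rotGroup N R, g ≠ 1 ∧ (g : Matrix (Fin 3) (Fin 3) F) ^ p = 1) ∨ (∃ s : F, ![0, 0, s] ∈ R) ∨
      (4 * f 0 ^ 2 = 1 ∧ 4 * f 1 ^ 2 = 1) := by
  classical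
  refine or_iff_not_imp_left.2 fun hno => or_iff_not_imp_left.2 fun hno2 => ?_
  push Not at hno hno2
  set H := rotGroup N R
  have hax' : ∀ h : H, h ≠ 1 → ∃ v, ip3 N v v ≠ 0 ∧ axis (h : GL (Fin 3) F) = Submodule.span F {v} := by
    exact rot_axis p h2 hN hno
  have hne0 : ∀ v : Fin 3 → F, ip3 N v v ≠ 0 → v ≠ 0 := fun v hv e => hv (by rw [e, ip3_zero_left])
  have hax : ∀ h : H, h ≠ 1 → ∃ v, v ≠ 0 ∧ axis (h : GL (Fin 3) F) = Submodule.span F {v} := fun h hh => by
    obtain ⟨v, hv, e⟩ := hax' h hh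
    exact ⟨v, hne0 v hv, e⟩
  have hsign : ∀ (h : H) (v : Fin 3 → F), ip3 N v v ≠ 0 → h • Submodule.span F {v} = Submodule.span F {v} →
      ((h : GL (Fin 3) F) : Matrix (Fin 3) (Fin 3) F) *ᵥ v = v ∨
        ((h : GL (Fin 3) F) : Matrix (Fin 3) (Fin 3) F) *ᵥ v = -v := by
    exact rot_sign
  have hidx : ∀ v : Fin 3 → F, ip3 N v v ≠ 0 →
      (fixing H (Submodule.span F {v})).relIndex (MulAction.stabilizer H (Submodule.span F {v})) ≤ 2 := by
    exact rot_index h2
  -- the coordinate axes and their half turns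
  obtain ⟨g₀, hg₀, hv₀⟩ := exists_halfTurn hR hR.e₀
  obtain ⟨g₁, hg₁, hv₁⟩ := exists_halfTurn hR hR.e₁
  obtain ⟨sg, hsg, hsv⟩ := exists_halfTurn hR hf
  set t₀ : H := ⟨g₀, hg₀⟩
  set t₁ : H := ⟨g₁, hg₁⟩
  set s : H := ⟨sg, hsg⟩
  set t₂ : H := t₀ * t₁
  have act₀ : ∀ v : Fin 3 → F, ((t₀ : GL (Fin 3) F) : Matrix (Fin 3) (Fin 3) F) *ᵥ v = ![v 0, -v 1, -v 2] :=
    fun v => by
      show (g₀ : Matrix (Fin 3) (Fin 3) F) *ᵥ v = _
      rw [hv₀, halfTurn_mulVec]; ext i; fin_cases i <;> simp [ip3]; ring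
  have act₁ : ∀ v : Fin 3 → F, ((t₁ : GL (Fin 3) F) : Matrix (Fin 3) (Fin 3) F) *ᵥ v = ![-v 0, v 1, -v 2] :=
    fun v => by
      show (g₁ : Matrix (Fin 3) (Fin 3) F) *ᵥ v = _
      rw [hv₁, halfTurn_mulVec]; ext i; fin_cases i <;> simp [ip3]; ring
  have act₂ : ∀ v : Fin 3 → F, ((t₂ : GL (Fin 3) F) : Matrix (Fin 3) (Fin 3) F) *ᵥ v = ![-v 0, -v 1, v 2] :=
    fun v => by
      simp only [t₂, Subgroup.coe_mul, Units.val_mul, ← mulVec_mulVec, act₁, act₀]
      ext i; fin_cases i <;> simp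
  set e : Fin 3 → (Fin 3 → F) := fun k => Pi.single k 1 with he
  set u : Fin 3 → Submodule F (Fin 3 → F) := fun k => Submodule.span F {e k} with hu
  have hipe : ∀ k, ip3 N (e k) (e k) ≠ 0 := fun k => by fin_cases k <;> simp [he, ip3, hN]
  have hee : ∀ k, e k ≠ 0 := fun k => hne0 _ (hipe k)
  set t : Fin 3 → H := ![t₀, t₁, t₂] with ht
  have hte : ∀ k l, ((t k : GL (Fin 3) F) : Matrix (Fin 3) (Fin 3) F) *ᵥ e l = if k = l then e l else -e l := by
    intro k l
    fin_cases k <;> simp [ht, act₀, act₁, act₂] <;> fin_cases l <;> simp [he] <;>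
      ext i <;> fin_cases i <;> simp
  have htfix : ∀ k l, t k • u l = u l := fun k l => by
    show (t k : GL (Fin 3) F) • u l = u l
    rw [hu, smul_span, hte]
    split_ifs
    · rfl
    · exact span_eq_of_mem (neg_ne_zero.2 (hee l)) (Submodule.neg_mem _ (Submodule.mem_span_singleton_self _))
  have hneg : ∀ {v : Fin 3 → F}, v ≠ 0 → -v ≠ v := fun {v} hv h => hv ((smul_eq_zero.1
    (show (2 : F) • v = 0 by rw [two_smul]; exact add_eq_zero_iff_eq_neg.2 h.symm)).resolve_left h2)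
  have ht1 : ∀ k, t k ≠ 1 := fun k h => by
    obtain ⟨l, hl⟩ : ∃ l, k ≠ l := ⟨k + 1, by fin_cases k <;> decide⟩
    have h1 := hte k l
    rw [h, if_neg hl, OneMemClass.coe_one, Units.val_one, one_mulVec] at h1
    exact hneg (hee l) h1.symm
  have hisax : ∀ k, IsAxis H (u k) := fun k => by
    refine ⟨t k, ht1 k, ?_⟩
    obtain ⟨v, hv, hsp⟩ := hax (t k) (ht1 k)
    rw [hsp]
    exact (span_eq_of_mem (hee k) (hsp ▸ mem_axis.2 (by rw [hte, if_pos rfl]))).symm
  have htmem : ∀ k, t k ∈ fixing H (u k) := fun k x hx => by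
    obtain ⟨c, rfl⟩ := scalar_of_mem_span hx
    rw [mulVec_smul, hte, if_pos rfl]
  have heven : ∀ k, 2 ∣ fixLen H (u k) := fun k => by
    have hsq : (⟨t k, htmem k⟩ : fixing H (u k)) ^ 2 = 1 := by
      refine Subtype.ext (Subtype.ext (Units.ext (Matrix.ext_of_mulVec_single fun i => ?_)))
      simp only [SubgroupClass.coe_pow, pow_two, Subgroup.coe_mul, Units.val_mul, OneMemClass.coe_one, Units.val_one,
        one_mulVec, ← mulVec_mulVec]
      have := hte k i
      simp only [he] at this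
      rw [this]
      split_ifs
      · rw [this, if_pos ‹_›]
      · rw [mulVec_neg, this, if_neg ‹_›, neg_neg]
    have ho : orderOf (⟨t k, htmem k⟩ : fixing H (u k)) = 2 :=
      orderOf_eq_prime hsq fun h => ht1 k (congrArg Subtype.val h)
    exact ho ▸ orderOf_dvd_natCard _
  have hflip : ∀ k, (fixing H (u k)).relIndex (MulAction.stabilizer H (u k)) = 2 := fun k => by
    have hle := hidx (e k) (hipe k)
    have h0 : (fixing H (u k)).relIndex (MulAction.stabilizer H (u k)) ≠ 0 := Subgroup.index_ne_zero_of_finite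
    have h1 : (fixing H (u k)).relIndex (MulAction.stabilizer H (u k)) ≠ 1 := fun h => by
      obtain ⟨l, hl⟩ : ∃ l, l ≠ k := ⟨k + 1, by fin_cases k <;> decide⟩
      have hm : t l ∈ fixing H (u k) := Subgroup.relIndex_eq_one.1 h (MulAction.mem_stabilizer_iff.2 (htfix l k))
      have h3 := hm (e k) (Submodule.mem_span_singleton_self _)
      rw [hte, if_neg hl] at h3
      exact hneg (hee k) h3
    simp only [hu] at h0 h1 ⊢
    omega
  -- the half turn about `f` moves every coordinate axis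
  have hfk : ∀ k, f k ≠ 0 := fun k => by fin_cases k <;> assumption
  have hsf : ∀ k, s • u k ≠ u k := fun k h => by
    have h' : sg • u k = u k := h
    rw [hu, smul_span, hsv, halfTurn_mulVec] at h'
    obtain ⟨c, hc⟩ := scalar_of_mem_span (h' ▸ Submodule.mem_span_singleton_self _)
    obtain ⟨l, hl⟩ : ∃ l, l ≠ k := ⟨k + 1, by fin_cases k <;> decide⟩
    have h1 := congrFun hc l
    have hip : ip3 N (e k) f ≠ 0 := by fin_cases k <;> simp [he, ip3, hN, hx, hy, hz]
    simp only [Pi.smul_apply, Pi.sub_apply, smul_eq_mul] at h1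
    rw [show e k l = 0 from Pi.single_eq_of_ne hl _, mul_zero, sub_zero] at h1
    exact mul_ne_zero (mul_ne_zero h2 hip) (hfk l) h1.symm
  have horb1 : ∀ {a}, orbLen H a = 1 → ∀ g : H, g • a = a := fun {a} h g => by
    have := (Nat.card_eq_one_iff_unique.1 h).1
    exact congrArg Subtype.val (Subsingleton.elim (⟨g • a, MulAction.mem_orbit a g⟩ : MulAction.orbit H a)
      ⟨a, MulAction.mem_orbit_self a⟩)
  have horb3 : ∀ k, orbLen H (u k) ≠ 1 := fun k h => hsf k (horb1 h s)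
  have hklein : ∀ a, IsAxis H a → t₀ • a = a → t₁ • a = a → ∃ k, a = u k := by
    exact klein_fixed p h2 hN hno t₀ t₁ act₀ act₁
  -- the third axis is in neither of the first two orbits
  have hsep : ∀ k : Fin 3, k ≠ 2 → u 2 ∉ MulAction.orbit H (u k) := by
    rintro k hk ⟨g, hg⟩
    have hg' : (g : GL (Fin 3) F) • u k = u 2 := hg
    rw [hu, smul_span] at hg'
    obtain ⟨c, hc⟩ := scalar_of_mem_span (hg' ▸ Submodule.mem_span_singleton_self _)
    refine hno2 c ?_
    have hk' : e k ∈ R := by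
      fin_cases k
      · convert hR.e₀ using 1; ext i; fin_cases i <;> simp [he]
      · convert hR.e₁ using 1; ext i; fin_cases i <;> simp [he]
      · exact absurd rfl hk
    have := g.2.2 _ hk'
    rw [← hc] at this
    convert this using 1
    ext i; fin_cases i <;> simp [he]
  have hsum3 : ∀ (a : Fin 3 → Submodule F (Fin 3 → F)) (o c : Fin 3 → ℕ),
      (∀ i, IsAxis H (a i)) → (∀ i j, i ≠ j → a j ∉ MulAction.orbit H (a i)) →
      (∀ i, o i = orbLen H (a i)) → (∀ i, c i = fixLen H (a i)) → (∀ i, o i * (2 * c i) = Nat.card H) →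
      (∀ b, IsAxis H b → ∃ i, b ∈ MulAction.orbit H (a i)) →
      o 0 * c 0 + o 0 * c 0 = Nat.card H ∧ o 1 * c 1 = o 0 * c 0 ∧ o 2 * c 2 = o 0 * c 0 ∧
        o 0 + o 1 + o 2 = o 0 * c 0 + 1 := by
    intro a o c ha hne ho hc hN2 hall
    have h := (axis_sum H hax a ha hne).2 hall
    simp only [← ho, ← hc, Fin.sum_univ_three] at h
    have hc' : ∀ i, o i * (c i - 1) + o i = o i * c i := fun i => by
      have : 2 ≤ c i := hc i ▸ two_le_fix H hax (ha i)
      rw [← Nat.mul_succ]; congr 1; omega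
    have := hc' 0; have := hc' 1; have := hc' 2
    have h0 := hN2 0; have h1 := hN2 1; have h2' := hN2 2
    rw [Nat.mul_left_comm] at h0 h1 h2'
    omega
  have hN0 : 0 < Nat.card H := Nat.card_pos
  -- at most three orbits of axes, two of them being flipped
  have hfour : ∀ a : Fin 4 → Submodule F (Fin 3 → F), (∀ i, IsAxis H (a i)) →
      (∀ i j, i ≠ j → a j ∉ MulAction.orbit H (a i)) → False := by
    intro a ha hne
    have h := (axis_sum H hax a ha hne).1
    have hb : ∀ i, Nat.card H ≤ 4 * (orbLen H (a i) * (fixLen H (a i) - 1)) := fun i => by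
      have h2c := two_le_fix H hax (ha i)
      obtain ⟨g, hg, hga⟩ := ha i
      obtain ⟨v, hv, hsp⟩ := hax' g hg
      rw [hga] at hsp
      have hm := orb_mul_fix H (a := a i) (hsp ▸ hidx v hv)
      obtain ⟨l, hl⟩ : ∃ l, fixLen H (a i) = l + 2 := ⟨_, (Nat.sub_add_cancel h2c).symm⟩
      rw [hl, show l + 2 - 1 = l + 1 by omega]
      rw [hl] at hm
      rcases hm with e | e <;> nlinarith
    simp only [Fin.sum_univ_four] at h
    have := hb 0; have := hb 1; have := hb 2; have := hb 3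
    omega
  have hcov3 : ∀ a : Fin 3 → Submodule F (Fin 3 → F), (∀ i, IsAxis H (a i)) →
      (∀ i j, i ≠ j → a j ∉ MulAction.orbit H (a i)) → ∀ b, IsAxis H b → ∃ i, b ∈ MulAction.orbit H (a i) := by
    intro a ha hne b hb
    by_contra hcon
    push Not at hcon
    refine hfour ![a 0, a 1, a 2, b] (fun i => by fin_cases i <;> simp [ha, hb]) fun i j hij => ?_
    fin_cases i <;> fin_cases j <;> simp at hij ⊢ <;> first
      | exact hne _ _ (by decide)
      | exact hcon _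
      | exact fun hm => hcon _ ((MulAction.orbit_eq_iff.2 hm).symm ▸ MulAction.mem_orbit_self _)
  have hsym : ∀ {x y : Submodule F (Fin 3 → F)}, x ∈ MulAction.orbit H y → y ∈ MulAction.orbit H x := fun {x y} h => by
    rw [MulAction.orbit_eq_iff.2 h]; exact MulAction.mem_orbit_self _
  by_cases h01 : u 1 ∈ MulAction.orbit H (u 0)
  swap
  · -- three flipped orbits of coordinate axes
    exfalso
    have hne : ∀ i j, i ≠ j → u j ∉ MulAction.orbit H (u i) := by
      intro i j hij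
      fin_cases i <;> fin_cases j <;> simp at hij ⊢ <;> first
        | exact h01
        | exact hsep _ (by decide)
        | exact fun hm => h01 (hsym hm)
        | exact fun hm => hsep _ (by decide) (hsym hm)
    obtain ⟨-, e1, e2, es⟩ := hsum3 u (fun i => orbLen H (u i)) (fun i => fixLen H (u i)) hisax hne
      (fun _ => rfl) (fun _ => rfl) (fun i => orb_mul_fix_flip H (hflip i)) (hcov3 u hisax hne)
    rcases arith_even rfl e1 e2 es (heven 0) (heven 1) (heven 2) (two_le_fix H hax (hisax 0))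
      (two_le_fix H hax (hisax 1)) (two_le_fix H hax (hisax 2)) with h | h | h <;> exact horb3 _ h
  -- a third orbit exists
  obtain ⟨a₃, ha₃, ha30, ha32⟩ : ∃ a, IsAxis H a ∧ a ∉ MulAction.orbit H (u 0) ∧ a ∉ MulAction.orbit H (u 2) := by
    by_contra hcon
    push Not at hcon
    have hne : ∀ i j : Fin 2, i ≠ j → (![u 0, u 2] : Fin 2 → _) j ∉ MulAction.orbit H ((![u 0, u 2] : Fin 2 → _) i) := by
      intro i j hij
      fin_cases i <;> fin_cases j <;> simp at hij ⊢ <;> first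
        | exact hsep 0 (by decide)
        | exact fun hm => hsep 0 (by decide) (hsym hm)
    have h := (axis_sum H hax ![u 0, u 2] (fun i => by fin_cases i <;> simp [hisax]) hne).2 fun b hb => by
      by_cases hb0 : b ∈ MulAction.orbit H (u 0)
      · exact ⟨0, hb0⟩
      · exact ⟨1, hcon b hb hb0⟩
    simp [Fin.sum_univ_two] at h
    have f0 := orb_mul_fix_flip H (hflip 0)
    have f2 := orb_mul_fix_flip H (hflip 2)
    have c0 := two_le_fix H hax (hisax 0)
    have c2 := two_le_fix H hax (hisax 2)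
    have o0 := horb3 0
    have o2 := horb3 2
    obtain ⟨l, hl⟩ : ∃ l, fixLen H (u 0) = l + 2 := ⟨_, (Nat.sub_add_cancel c0).symm⟩
    obtain ⟨l', hl'⟩ : ∃ l, fixLen H (u 2) = l + 2 := ⟨_, (Nat.sub_add_cancel c2).symm⟩
    rw [hl, hl'] at h
    rw [hl] at f0
    rw [hl'] at f2
    simp at h
    have : Nonempty (MulAction.orbit H (u 0)) := ⟨⟨_, MulAction.mem_orbit_self _⟩⟩
    have : Nonempty (MulAction.orbit H (u 2)) := ⟨⟨_, MulAction.mem_orbit_self _⟩⟩
    have p0 : 0 < orbLen H (u 0) := Nat.card_pos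
    have p2 : 0 < orbLen H (u 2) := Nat.card_pos
    nlinarith
  set a : Fin 3 → Submodule F (Fin 3 → F) := ![u 0, u 2, a₃] with haDef
  have haA : ∀ i, IsAxis H (a i) := fun i => by fin_cases i <;> simp [a, hisax, ha₃]
  have hne : ∀ i j, i ≠ j → a j ∉ MulAction.orbit H (a i) := by
    intro i j hij
    fin_cases i <;> fin_cases j <;> simp [a] at hij ⊢ <;> first
      | exact hsep 0 (by decide)
      | exact ha30
      | exact ha32
      | exact fun hm => hsep 0 (by decide) (hsym hm)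
      | exact fun hm => ha30 (hsym hm)
      | exact fun hm => ha32 (hsym hm)
  obtain ⟨g3, hg3, hga3⟩ := ha₃
  obtain ⟨v3, hv3, hsp3⟩ := hax' g3 hg3
  rw [hga3] at hsp3
  have hflip3 : orbLen H a₃ * (2 * fixLen H a₃) = Nat.card H := by
    refine (orb_mul_fix H (hsp3 ▸ hidx v3 hv3)).resolve_left fun e3 => ?_
    have h := (axis_sum H hax a haA hne).1
    simp [a, Fin.sum_univ_three] at h
    have f0 := orb_mul_fix_flip H (hflip 0)
    have f2 := orb_mul_fix_flip H (hflip 2)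
    have c0 := two_le_fix H hax (hisax 0)
    have c2 := two_le_fix H hax (hisax 2)
    have c3 : 2 ≤ fixLen H a₃ := two_le_fix H hax ⟨g3, hg3, hga3⟩
    obtain ⟨l, hl⟩ : ∃ l, fixLen H (u 0) = l + 2 := ⟨_, (Nat.sub_add_cancel c0).symm⟩
    obtain ⟨l', hl'⟩ : ∃ l, fixLen H (u 2) = l + 2 := ⟨_, (Nat.sub_add_cancel c2).symm⟩
    obtain ⟨m, hm⟩ : ∃ l, fixLen H a₃ = l + 2 := ⟨_, (Nat.sub_add_cancel c3).symm⟩
    rw [hl, hl', hm] at h
    rw [hl] at f0; rw [hl'] at f2; rw [hm] at e3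
    simp at h
    nlinarith
  obtain ⟨-, e1, e2, es⟩ := hsum3 a (fun i => orbLen H (a i)) (fun i => fixLen H (a i)) haA hne (fun _ => rfl)
    (fun _ => rfl) (fun i => by
      fin_cases i
      · exact orb_mul_fix_flip H (hflip 0)
      · exact orb_mul_fix_flip H (hflip 2)
      · exact hflip3) (hcov3 a haA hne)
  rcases arith_two_even rfl e1 e2 es (heven 0) (heven 2) (two_le_fix H hax (hisax 0))
    (two_le_fix H hax (hisax 2)) (two_le_fix H hax ⟨g3, hg3, hga3⟩) with h | h | h | h | ⟨h, h4⟩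
  · exact absurd h (horb3 0)
  · exact absurd h (horb3 2)
  · exfalso
    obtain ⟨k, hk⟩ := hklein a₃ ⟨g3, hg3, hga3⟩ (horb1 h _) (horb1 h _)
    fin_cases k
    · exact ha30 (hk ▸ MulAction.mem_orbit_self _)
    · exact ha30 (hk ▸ h01)
    · exact ha32 (hk ▸ MulAction.mem_orbit_self _)
  · exfalso
    have hu01 : u 0 ≠ u 1 := fun h' => by
      obtain ⟨c, hc⟩ := scalar_of_mem_span (h' ▸ Submodule.mem_span_singleton_self _ : e 0 ∈ u 1)
      simpa [he] using congrFun hc 0
    have hfin : (MulAction.orbit H (u 0)).Finite := Set.toFinite _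
    obtain ⟨b, hb, hb01⟩ : ∃ b ∈ MulAction.orbit H (u 0), b ∉ ({u 0, u 1} : Set _) := by
      by_contra hcon
      push Not at hcon
      have h5 := Set.ncard_le_ncard hcon (Set.toFinite _)
      rw [← Nat.card_coe_set_eq, show Nat.card (MulAction.orbit H (u 0)) = 3 from h, Set.ncard_pair hu01] at h5
      omega
    have hset : MulAction.orbit H (u 0) = ({b, u 0, u 1} : Set _) := by
      refine (Set.eq_of_subset_of_ncard_le ?_ ?_ hfin).symm
      · rintro x (rfl | rfl | rfl)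
        exacts [hb, MulAction.mem_orbit_self _, h01]
      · rw [← Nat.card_coe_set_eq, show Nat.card (MulAction.orbit H (u 0)) = 3 from h,
          Set.ncard_insert_of_notMem hb01, Set.ncard_pair hu01]
    have hfixb : ∀ k, t k • b = b := fun k => by
      have hm : t k • b ∈ ({b, u 0, u 1} : Set _) := hset ▸ MulAction.mem_orbit_of_mem_orbit (t k) hb
      rcases hm with h' | h' | h'
      · exact h'
      · exact absurd (Or.inl (smul_left_cancel (t k) (h'.trans (htfix k 0).symm))) hb01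
      · exact absurd (Or.inr (smul_left_cancel (t k) (h'.trans (htfix k 1).symm))) hb01
    obtain ⟨g, hg⟩ := hb
    obtain ⟨hh, hh1, hh2⟩ := hisax 0
    have hbA : IsAxis H b := ⟨g * hh * g⁻¹, fun e => hh1 (conj_eq_one_iff.1 e), by
      rw [Subgroup.coe_mul, Subgroup.coe_mul, Subgroup.coe_inv, axis_conj, hh2]; exact hg⟩
    obtain ⟨k, hk⟩ := hklein b hbA (hfixb 0) (hfixb 1)
    fin_cases k
    · exact hb01 (Or.inl hk)
    · exact hb01 (Or.inr hk)
    · exact hsep 0 (by decide) (hk ▸ ⟨g, hg⟩)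
  -- the orbit of the third axis has three members
  set v := (sg : Matrix (Fin 3) (Fin 3) F) *ᵥ e 2 with hvdef
  have hl : s • u 2 = Submodule.span F {v} := by
    show sg • u 2 = _
    rw [hu, smul_span]
  have hfin : (MulAction.orbit H (u 2)).Finite := Set.toFinite _
  obtain ⟨l', hl'm, hl'⟩ : ∃ b ∈ MulAction.orbit H (u 2), b ∉ ({u 2, s • u 2} : Set _) := by
    by_contra hcon
    push Not at hcon
    have h5 := Set.ncard_le_ncard hcon (Set.toFinite _)
    rw [← Nat.card_coe_set_eq, show Nat.card (MulAction.orbit H (u 2)) = 3 from h, Set.ncard_pair (hsf 2).symm] at h5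
    omega
  have hset : MulAction.orbit H (u 2) = ({l', u 2, s • u 2} : Set _) := by
    refine (Set.eq_of_subset_of_ncard_le ?_ ?_ hfin).symm
    · rintro x (rfl | rfl | rfl)
      exacts [hl'm, MulAction.mem_orbit_self _, MulAction.mem_orbit _ _]
    · rw [← Nat.card_coe_set_eq, show Nat.card (MulAction.orbit H (u 2)) = 3 from h,
        Set.ncard_insert_of_notMem hl', Set.ncard_pair (hsf 2).symm]
  have hu2l : u 2 ≠ l' := fun h' => hl' (Or.inl h'.symm)
  have hl'u : s • u 2 ≠ l' := fun h' => hl' (Or.inr h'.symm)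
  -- every other member is orthogonal to the third axis
  have horth : ∀ b ∈ MulAction.orbit H (u 2), b ≠ u 2 → ∀ w : Fin 3 → F, b = Submodule.span F {w} →
      ip3 N w w ≠ 0 → w 2 = 0 := by
    intro b hb hbu w hbw hww
    have hperm : ∀ g : H, g ∈ fixing H (u 2) → g • b = b ∨ g • b ∈ ({x | x ∈ MulAction.orbit H (u 2) ∧ x ≠ u 2 ∧ x ≠ b} : Set _) := by
      intro g hg
      by_cases hgb : g • b = b
      · exact Or.inl hgb
      refine Or.inr ⟨MulAction.mem_orbit_of_mem_orbit g hb, fun h' => hbu ?_, hgb⟩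
      have hgu : g • u 2 = u 2 := fixing_le_stabilizer H _ hg
      exact smul_left_cancel g (h'.trans hgu.symm)
    -- two rotations about the third axis agree on `b`
    obtain ⟨x, y, hxy, hx', hy', hsame⟩ : ∃ x y : H, x ≠ y ∧ x ∈ fixing H (u 2) ∧ y ∈ fixing H (u 2) ∧ x • b = y • b := by
      by_contra hcon
      push Not at hcon
      have hinj : Function.Injective fun g : fixing H (u 2) => (g : H) • b := fun g g' he => by
        by_contra hne'
        exact hcon g g' (fun e' => hne' (Subtype.ext e')) g.2 g'.2 he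
      have hrange : Set.range (fun g : fixing H (u 2) => (g : H) • b) ⊆ MulAction.orbit H (u 2) := by
        rintro _ ⟨g, rfl⟩
        exact MulAction.mem_orbit_of_mem_orbit _ hb
      have := Set.ncard_le_ncard hrange hfin
      rw [Set.ncard_range_of_injective hinj, ← Nat.card_coe_set_eq, show Nat.card (MulAction.orbit H (u 2)) = 3 from h,
        show Nat.card (fixing H (u 2)) = 4 from h4] at this
      omega
    have hk1 : y⁻¹ * x ≠ 1 := fun e' => hxy (inv_mul_eq_one.1 e').symm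
    have hku : y⁻¹ * x ∈ fixing H (u 2) := mul_mem (inv_mem hy') hx'
    have hkb : (y⁻¹ * x) • Submodule.span F {w} = Submodule.span F {w} := by
      rw [← hbw, mul_smul, hsame, inv_smul_smul]
    have hk2 := hku (e 2) (Submodule.mem_span_singleton_self _)
    rcases hsign _ w hww hkb with hk | hk
    · exfalso
      obtain ⟨q, hq, hsp⟩ := hax (y⁻¹ * x) hk1
      refine hbu ?_
      rw [hbw, span_eq_of_mem (hne0 w hww) (hsp ▸ mem_axis.2 hk)]
      exact (span_eq_of_mem (hee 2) (hsp ▸ mem_axis.2 hk2)).symm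
    · have h5 := (y⁻¹ * x).2.1.1 w (e 2)
      rw [hk, hk2] at h5
      simp [ip3, he] at h5
      exact (mul_eq_zero.1 (show (2 * N) * w 2 = 0 by linear_combination -h5)).resolve_left (mul_ne_zero h2 hN)
  have hvv : ip3 N v v ≠ 0 := by rw [hvdef, hsg.1.1]; exact hipe 2
  have hv2 : v 2 = 0 := horth _ (MulAction.mem_orbit _ _) (hsf 2) v hl hvv
  obtain ⟨g, hg⟩ := hl'm
  set w := ((g : GL (Fin 3) F) : Matrix (Fin 3) (Fin 3) F) *ᵥ e 2 with hwdef
  have hl'w : l' = Submodule.span F {w} := by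
    rw [← hg]
    show (g : GL (Fin 3) F) • u 2 = _
    rw [hu, smul_span]
  have hww : ip3 N w w ≠ 0 := by rw [hwdef, g.2.1.1]; exact hipe 2
  have hw2 : w 2 = 0 := horth l' ⟨g, hg⟩ hu2l.symm w hl'w hww
  -- and those two are orthogonal
  have hss : ∀ x : Submodule F (Fin 3 → F), sg • sg • x = x := fun x => by
    rw [← mul_smul]
    have : sg * sg = 1 := Units.ext (Matrix.ext_of_mulVec_single fun i => by
      rw [Units.val_mul, ← mulVec_mulVec, Units.val_one, one_mulVec, hsv, halfTurn_mulVec, halfTurn_mulVec,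
        ip3_sub_left, ip3_smul_left, hR.unit f hf]
      module)
    rw [this, one_smul]
  have hsl' : s • l' = l' := by
    have hm : s • l' ∈ ({l', u 2, s • u 2} : Set _) := hset ▸ MulAction.mem_orbit_of_mem_orbit s ⟨g, hg⟩
    rcases hm with h' | h' | h'
    · exact h'
    · exact absurd (show s • u 2 = l' by rw [← h']; exact hss l') hl'u
    · exact absurd (smul_left_cancel s h').symm hu2l
  have hvw : ip3 N v w = 0 := by
    have h5 := hsg.1.1 (e 2) w
    rcases hsign s w hww (hl'w ▸ hsl') with h' | h'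
    all_goals
      have h'' : (sg : Matrix (Fin 3) (Fin 3) F) *ᵥ w = _ := h'
      rw [h'', ← hvdef] at h5
      simp [ip3, he, hw2] at h5 ⊢
      first | linear_combination h5 | linear_combination -h5
  have hm : t₀ • (s • u 2) ∈ ({l', u 2, s • u 2} : Set _) :=
    hset ▸ MulAction.mem_orbit_of_mem_orbit t₀ (MulAction.mem_orbit _ _)
  have ht0l : t₀ • (s • u 2) = Submodule.span F {![v 0, -v 1, -v 2]} := by
    rw [hl]
    show (t₀ : GL (Fin 3) F) • Submodule.span F {v} = _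
    rw [smul_span, act₀]
  have hgvec : v = ![2 * N * f 2 * f 0, 2 * N * f 2 * f 1, 2 * N * f 2 * f 2 - 1] := by
    rw [hvdef, hsv, halfTurn_mulVec]; ext i; fin_cases i <;>
      simp [he, ip3, -mul_eq_mul_right_iff, -mul_eq_mul_left_iff] <;> ring
  have h2Nz : 2 * N * f 2 ≠ 0 := mul_ne_zero (mul_ne_zero h2 hN) hz
  have hv0' : v 0 = 2 * N * f 2 * f 0 := by rw [hgvec]; rfl
  have hv1' : v 1 = 2 * N * f 2 * f 1 := by rw [hgvec]; rfl
  have hv0 : v 0 ≠ 0 := hv0' ▸ mul_ne_zero h2Nz hx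
  have hv1 : v 1 ≠ 0 := hv1' ▸ mul_ne_zero h2Nz hy
  rw [ht0l] at hm
  have hd : v 0 * v 0 - v 1 * v 1 = 0 := by
    rcases hm with h' | h' | h'
    · rw [hl'w] at h'
      obtain ⟨c, hc⟩ := scalar_of_mem_span (h' ▸ Submodule.mem_span_singleton_self _ :
        ![v 0, -v 1, -v 2] ∈ Submodule.span F {w})
      have k0 := congrFun hc 0
      have k1 := congrFun hc 1
      simp at k0 k1
      simp [ip3, hv2] at hvw
      linear_combination -(v 0) * k0 - (v 1) * k1 + c * hvw
    · exfalso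
      rw [show u 2 = Submodule.span F {e 2} from rfl] at h'
      obtain ⟨c, hc⟩ := scalar_of_mem_span (h' ▸ Submodule.mem_span_singleton_self _ :
        ![v 0, -v 1, -v 2] ∈ Submodule.span F {e 2})
      simpa [he, hv0] using (congrFun hc 0).symm
    · exfalso
      rw [hl] at h'
      obtain ⟨c, hc⟩ := scalar_of_mem_span (h' ▸ Submodule.mem_span_singleton_self _ :
        ![v 0, -v 1, -v 2] ∈ Submodule.span F {v})
      have k0 := congrFun hc 0
      have k1 := congrFun hc 1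
      simp at k0 k1
      have : 2 * (v 0 * v 1) = 0 := by linear_combination v 0 * k1 - v 1 * k0
      exact mul_ne_zero hv0 hv1 ((mul_eq_zero.1 this).resolve_left h2)
  have hzero : 2 * N * f 2 * f 2 = 1 := by
    have h5 : v 2 = 2 * N * f 2 * f 2 - 1 := by rw [hgvec]; rfl
    linear_combination hv2 - h5
  have hfu : f 0 * f 0 + f 1 * f 1 + N * (f 2 * f 2) = 1 := hR.unit f hf
  rw [hv0', hv1'] at hd
  have : f 0 * f 0 - f 1 * f 1 = 0 := (mul_eq_zero.1
    (show (2 * N * f 2 * (2 * N * f 2)) * (f 0 * f 0 - f 1 * f 1) = 0 by linear_combination hd)).resolve_left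
      (mul_ne_zero h2Nz h2Nz)
  exact ⟨by linear_combination 2 * hfu - hzero + 2 * this, by linear_combination 2 * hfu - hzero - 2 * this⟩

end CfsgLib.Sp4Odd
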