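import Cfsg.Agent.Lib.GeomClasses.SphereAll
import Cfsg.Agent.Lib.Sp4Odd.SphereFlip

/-!
A reflection closed set of unit vectors with two orthogonal axes and a rotation of order `p` holds every unit
vector (the argument of `GeomClasses/SphereAll`, without the symmetry of the two axes).
-/

set_option autoImplicit false
set_option linter.unusedSectionVars false

namespace CfsgLib.Sp4Odd

open Matrix
open CfsgLib.GeomClasses.SphereThree (ip3 cross cross_self cross_left cross_right pt pt_swap ip3_pt ip3_comm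
  ip3_smul_left ip3_smul_right ip3_sub_left ip3_sub_right ip3_zero_left rotGroup halfTurn halfTurn_rot halfTurn_mulVec
  exists_fixed unip_fixed unip_shape shape_pow eq_of_basis pair_det exists_comb exists_natCast exists_conic)

variable {F : Type*} [Field F] [Finite F] {N : F}

section Closure

variable {R : Set (Fin 3 → F)} (hR : IsFlipSet N R) (p : ℕ) [Fact p.Prime] [CharP F p] (h2 : (2 : F) ≠ 0)
  (hN : N ≠ 0) (hcard : Nat.card F = p)
include hR h2 hN hcard

/-- The root group of a rotation of order `p` preserves the set. -/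
theorem root_move {g : GL (Fin 3) F} (hg : g ∈ rotGroup N R) (hne : g ≠ 1)
    (hp : (g : Matrix (Fin 3) (Fin 3) F) ^ p = 1) {w w' : Fin 3 → F} (hw : ip3 N w w = 0)
    (hw' : ip3 N w' w' = 0) (hww : ip3 N w w' = 1) (hgw : (g : Matrix (Fin 3) (Fin 3) F) *ᵥ w = w)
    (α γ β t : F) (hx : pt N w w' α γ β ∈ R) :
    pt N w w' (α + γ * t + β * t * t / (2 * N)) (γ + β * t / N) β ∈ R := by
  have hne' : (g : Matrix (Fin 3) (Fin 3) F) ≠ 1 := fun e => hne (Units.ext e)
  have hnf : ∀ v, (g : Matrix (Fin 3) (Fin 3) F) *ᵥ v = v → ip3 N v v = 0 := fun v hv =>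
    unip_fixed h2 hN hg.1 p hne' hp hv
  obtain ⟨a, hm, hw''⟩ := unip_shape h2 hN hg.1 hnf hw hw' hww hgw
  have ha : a ≠ 0 := by
    rintro rfl
    exact hne' (eq_of_basis (pair_det h2 hN hw hw' hww) (by rw [hgw, one_mulVec]) (by rw [hm, one_mulVec]; simp)
      (by rw [hw'', one_mulVec]; simp))
  obtain ⟨k, hk⟩ := exists_natCast p hcard (t / a)
  obtain ⟨i1, i2, i3⟩ := shape_pow h2 hN hgw hm hw'' k
  rw [hk, div_mul_cancel₀ _ ha] at i2 i3
  have := (pow_mem hg k).2 _ hx
  rw [Units.val_pow_eq_pow_val] at this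
  convert this using 1
  simp only [pt, mulVec_add, mulVec_smul, i1, i2, i3]
  module

omit p hcard in
theorem ip_pt_eq {w w' : Fin 3 → F} (hw : ip3 N w w = 0) (hw' : ip3 N w' w' = 0) (hww : ip3 N w w' = 1)
    {α γ β : F} (hx : pt N w w' α γ β ∈ R) : 2 * α * β - N * γ ^ 2 = 1 := by
  rw [← ip3_pt w w' hw hw' hww]; exact hR.unit _ hx

/-- One vector of a height gives all of that height. -/
theorem same_height {g : GL (Fin 3) F} (hg : g ∈ rotGroup N R) (hne : g ≠ 1)
    (hp : (g : Matrix (Fin 3) (Fin 3) F) ^ p = 1) {w w' : Fin 3 → F} (hw : ip3 N w w = 0)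
    (hw' : ip3 N w' w' = 0) (hww : ip3 N w w' = 1) (hgw : (g : Matrix (Fin 3) (Fin 3) F) *ᵥ w = w)
    {α γ β α' γ' : F} (hβ : β ≠ 0) (hx : pt N w w' α γ β ∈ R) (hu : 2 * α' * β - N * γ' ^ 2 = 1) :
    pt N w w' α' γ' β ∈ R := by
  have h0 := ip_pt_eq hR h2 hN hw hw' hww hx
  have := root_move hR p h2 hN hcard hg hne hp hw hw' hww hgw α γ β ((γ' - γ) * N / β) hx
  have e1 : γ + β * ((γ' - γ) * N / β) / N = γ' := by field_simp; ring
  rw [e1] at this
  convert this using 2
  field_simp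
  linear_combination hu - h0

/-- A flip set with a rotation of order `p` is the whole unit sphere. -/
theorem full_of_unip (h5 : 5 ≤ p) {g : GL (Fin 3) F} (hg : g ∈ rotGroup N R) (hne : g ≠ 1)
    (hp : (g : Matrix (Fin 3) (Fin 3) F) ^ p = 1) (x : Fin 3 → F) (hx : ip3 N x x = 1) : x ∈ R := by
  classical
  have hF : ringChar F ≠ 2 := by rw [ringChar.eq F p]; omega
  have h3 : (3 : F) ≠ 0 := fun e => by
    have := Nat.le_of_dvd (by norm_num) ((CharP.cast_eq_zero_iff F p 3).1 (by exact_mod_cast e))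
    omega
  have hne' : (g : Matrix (Fin 3) (Fin 3) F) ≠ 1 := fun e => hne (Units.ext e)
  obtain ⟨w, hw0, hgw⟩ := exists_fixed h2 hN hg.1
  have hw := unip_fixed h2 hN hg.1 p hne' hp hgw
  obtain ⟨e, he, hew⟩ : ∃ e ∈ R, ip3 N w e ≠ 0 := by
    by_contra hc
    push Not at hc
    have a0 := hc _ hR.e₀
    have a1 := hc _ hR.e₁
    simp [ip3] at a0 a1
    refine hw0 (funext fun i => ?_)
    simp [ip3, a0, a1, hN] at hw
    fin_cases i <;> simp [a0, a1, hw]
  obtain ⟨h, hh, hhv⟩ := exists_halfTurn hR he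
  set v := halfTurn N e *ᵥ w with hv
  have hvv : ip3 N v v = 0 := by rw [hv, (halfTurn_rot (hR.unit e he)).1, hw]
  have hwv : ip3 N w v ≠ 0 := by
    rw [hv, halfTurn_mulVec, ip3_sub_right, ip3_smul_right, hw, sub_zero]
    exact mul_ne_zero (mul_ne_zero h2 hew) hew
  set w' := (ip3 N w v)⁻¹ • v with hw'def
  have hw' : ip3 N w' w' = 0 := by rw [hw'def, ip3_smul_left, ip3_smul_right, hvv, mul_zero, mul_zero]
  have hww : ip3 N w w' = 1 := by rw [hw'def, ip3_smul_right, inv_mul_cancel₀ hwv]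
  have hww' : ip3 N w' w = 1 := by rw [ip3_comm, hww]
  set g' := h * g * h⁻¹ with hg'def
  have hg' : g' ∈ rotGroup N R := mul_mem (mul_mem hh hg) (inv_mem hh)
  have hne2 : g' ≠ 1 := fun e' => hne (conj_eq_one_iff.1 e')
  have hp' : (g' : Matrix (Fin 3) (Fin 3) F) ^ p = 1 := by
    rw [← Units.val_pow_eq_pow_val, hg'def, conj_pow,
      show g ^ p = 1 from Units.ext (by rw [Units.val_pow_eq_pow_val, hp]; rfl), mul_one, mul_inv_cancel,
      Units.val_one]
  have hgw' : (g' : Matrix (Fin 3) (Fin 3) F) *ᵥ w' = w' := by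
    have e1 : ((h⁻¹ : GL (Fin 3) F) : Matrix (Fin 3) (Fin 3) F) *ᵥ v = w := by
      rw [hv, ← hhv, mulVec_mulVec, ← Units.val_mul, inv_mul_cancel, Units.val_one, one_mulVec]
    rw [hw'def, mulVec_smul, hg'def, Units.val_mul, Units.val_mul, ← mulVec_mulVec, ← mulVec_mulVec, e1, hgw,
      hhv, hv]
  -- same first coordinate
  have hA : ∀ α γ β γ' β', α ≠ 0 → pt N w w' α γ β ∈ R → 2 * α * β' - N * γ' ^ 2 = 1 →
      pt N w w' α γ' β' ∈ R := fun α γ β γ' β' hα hm hu => by
    have := same_height hR p h2 hN hcard hg' hne2 hp' hw' hw hww' hgw' (α := β) (γ := -γ) (β := α)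
      (α' := β') (γ' := -γ') hα (by rw [pt_swap]; exact hm) (by linear_combination hu)
    rwa [pt_swap] at this
  have hB : ∀ α γ β α' γ', β ≠ 0 → pt N w w' α γ β ∈ R → 2 * α' * β - N * γ' ^ 2 = 1 →
      pt N w w' α' γ' β ∈ R := fun α γ β α' γ' hβ hm hu =>
    same_height hR p h2 hN hcard hg hne hp hw hw' hww hgw hβ hm hu
  let A : Set F := {α | α ≠ 0 ∧ ∃ γ β, pt N w w' α γ β ∈ R}
  -- the multipliers
  let K : Submonoid Fˣ :=
    { carrier := {k | ∀ α ∈ A, (k : F) * α ∈ A}
      mul_mem' := fun {a b} ha hb α hα => by rw [Units.val_mul, mul_assoc]; exact ha _ (hb α hα)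
      one_mem' := fun α hα => by rw [Units.val_one, one_mul]; exact hα }
  have hD : ∀ γ : F, ∀ u : Fˣ, (u : F) = 1 + N * γ ^ 2 → u ∈ K := by
    rintro γ u hu α ⟨hα, γ₁, β₁, hm⟩
    have h1 := hA α γ₁ β₁ 0 (1 / (2 * α)) hα hm (by field_simp; ring)
    have h2' := hB α 0 (1 / (2 * α)) ((u : F) * α) γ (one_div_ne_zero (mul_ne_zero h2 hα)) h1
      (by rw [hu]; field_simp; ring)
    exact ⟨mul_ne_zero u.ne_zero hα, γ, _, h2'⟩
  let K' : Subgroup Fˣ :=
    { K with
      inv_mem' := fun {u} (hu : u ∈ K) => by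
        have : u⁻¹ = u ^ (Nat.card Fˣ - 1) := by
          refine inv_eq_of_mul_eq_one_right ?_
          rw [← pow_succ', Nat.sub_add_cancel Nat.card_pos, pow_card_eq_one']
        change u⁻¹ ∈ K
        rw [this]; exact pow_mem hu _ }
  have := Fintype.ofFinite F
  have hK' : K'.index ≤ 2 := by
    have hc1 : Fintype.card F = p := by rw [← Nat.card_eq_fintype_card, hcard]
    let S : Finset F := Finset.univ.filter fun γ => 1 + N * γ ^ 2 ≠ 0
    let val : F → Fˣ := fun γ => if hγ : 1 + N * γ ^ 2 = 0 then 1 else Units.mk0 _ hγ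
    have hfib : ∀ (T : Finset F) (c : F), (∀ γ ∈ T, N * γ ^ 2 = c) → T.card ≤ 2 := by
      intro T c hT
      rcases T.eq_empty_or_nonempty with rfl | ⟨γ₀, hγ₀⟩
      · simp
      refine (Finset.card_le_card (t := ({γ₀, -γ₀} : Finset F)) fun γ hγ => ?_).trans Finset.card_le_two
      rw [Finset.mem_insert, Finset.mem_singleton]
      refine mul_self_eq_mul_self_iff.1 (mul_left_cancel₀ hN ?_)
      rw [← sq, ← sq, hT γ hγ, hT γ₀ hγ₀]
    have hS : p ≤ S.card + 2 := by
      have h0 := hfib (Finset.univ.filter fun γ => ¬ (1 + N * γ ^ 2 ≠ 0)) (-1) fun γ hγ => by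
        simp at hγ
        linear_combination hγ
      have h1 := Finset.card_filter_add_card_filter_not (s := (Finset.univ : Finset F))
        (fun γ => 1 + N * γ ^ 2 ≠ 0)
      rw [Finset.card_univ, hc1] at h1
      change _ ≤ (Finset.univ.filter _).card + 2
      omega
    have himg : S.card ≤ 2 * (S.image val).card := Finset.card_le_mul_card_image S 2 fun b hb => by
      refine hfib _ ((b : F) - 1) fun γ hγ => ?_
      simp only [Finset.mem_filter, S, Finset.mem_univ, true_and] at hγ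
      rw [← hγ.2]
      simp [val, hγ.1]
    have hle : (S.image val).card ≤ Nat.card K' := by
      rw [Nat.card_eq_fintype_card, Fintype.card_subtype]
      refine Finset.card_le_card fun u hu => ?_
      obtain ⟨γ, hγ, rfl⟩ := Finset.mem_image.1 hu
      simp only [Finset.mem_filter, S, Finset.mem_univ, true_and] at hγ ⊢
      exact hD γ _ (by simp [val, hγ])
    have hm := K'.card_mul_index
    rw [Nat.card_units, hcard] at hm
    obtain ⟨j, hj⟩ := (Fact.out : p.Prime).odd_of_ne_two (by omega)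
    by_contra hc
    have : 3 * Nat.card K' ≤ Nat.card K' * K'.index := by nlinarith
    omega
  have hsq : ∀ u : Fˣ, u ^ 2 ∈ K := fun u => by
    rcases Nat.lt_or_ge K'.index 2 with h1 | h1
    · have : K'.index = 1 := by have := K'.index_ne_zero_of_finite; omega
      have : u ^ 2 ∈ K' := by rw [Subgroup.index_eq_one.1 this]; trivial
      exact this
    · exact Subgroup.sq_mem_of_index_two (H := K') (by omega) u
  have hK : ∀ u : Fˣ, u ∈ K := by
    intro u
    obtain ⟨a, γ, e, ha0⟩ : ∃ a γ, (u : F) * a ^ 2 = 1 + N * γ ^ 2 ∧ a ≠ 0 := by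
      obtain ⟨a, b, e⟩ := exists_conic hF u.ne_zero (neg_ne_zero.2 hN)
      by_cases ha : a = 0
      · subst ha
        obtain ⟨r, hr, hru⟩ : ∃ r : F, r ≠ 0 ∧ (u : F) * r ^ 2 - N ≠ 0 := by
          by_contra hc
          push Not at hc
          have := hc 1 one_ne_zero
          have h' := hc 2 h2
          exact u.ne_zero ((mul_eq_zero.1 (show 3 * (u : F) = 0 by linear_combination h' - this)).resolve_left h3)
        have hb : b ≠ 0 := by rintro rfl; simp at e
        refine ⟨r * (2 * N * b / ((u : F) * r ^ 2 - N)), b + 2 * N * b / ((u : F) * r ^ 2 - N), ?_,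
          mul_ne_zero hr (div_ne_zero (mul_ne_zero (mul_ne_zero h2 hN) hb) hru)⟩
        field_simp
        linear_combination ((u : F) * r ^ 2 - N) ^ 2 * e
      · exact ⟨a, b, by linear_combination e, ha⟩
    set s : Fˣ := Units.mk0 a ha0
    have h1 : u * s ^ 2 ∈ K := hD γ _ (by rw [Units.val_mul, Units.val_pow_eq_pow_val]; exact e)
    have := K.mul_mem h1 (hsq s⁻¹)
    rwa [mul_assoc, ← mul_pow, mul_inv_cancel, one_pow, mul_one] at this
  have hall : ∀ α γ β, α ≠ 0 → 2 * α * β - N * γ ^ 2 = 1 → pt N w w' α γ β ∈ R := by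
    intro α γ β hα hu
    obtain ⟨α₀, hα₀, γ₀, β₀, h0⟩ : A.Nonempty := by
      obtain ⟨a, b, c, hc⟩ := exists_comb (pair_det h2 hN hw hw' hww) (![1, 0, 0] : Fin 3 → F)
      have hm : pt N w w' a b c ∈ R := by
        change a • w + b • cross N w w' + c • w' ∈ R
        rw [← hc]; exact hR.e₀
      by_cases ha : a = 0
      · have hu' := ip_pt_eq hR h2 hN hw hw' hww hm
        subst ha
        have hb : b ≠ 0 := by rintro rfl; simp at hu'
        obtain ⟨t, ht⟩ : ∃ t, 0 + b * t + c * t * t / (2 * N) ≠ 0 := by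
          by_contra hc'
          push Not at hc'
          have t1 := hc' 1
          have t2 := hc' 2
          exact hb ((mul_eq_zero.1 (show 2 * b = 0 by linear_combination 4 * t1 - t2)).resolve_left h2)
        exact ⟨_, ht, _, _, root_move hR p h2 hN hcard hg hne hp hw hw' hww hgw 0 b c t hm⟩
      · exact ⟨a, ha, b, c, hm⟩
    obtain ⟨-, γ₁, β₁, h1⟩ := hK (Units.mk0 (α / α₀) (div_ne_zero hα hα₀)) α₀ ⟨hα₀, γ₀, β₀, h0⟩
    rw [Units.val_mk0, div_mul_cancel₀ _ hα₀] at h1
    exact hA α γ₁ β₁ γ β hα h1 hu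
  obtain ⟨α, γ, β, hc⟩ := exists_comb (pair_det h2 hN hw hw' hww) x
  change x = pt N w w' α γ β at hc
  have hu : 2 * α * β - N * γ ^ 2 = 1 := by rw [← ip3_pt w w' hw hw' hww, ← hc, hx]
  by_cases hα : α = 0
  · subst hα
    have hγ : γ ≠ 0 := by rintro rfl; simp at hu
    obtain ⟨t, ht⟩ : ∃ t, 0 + γ * t + β * t * t / (2 * N) ≠ 0 := by
      by_contra hc'
      push Not at hc'
      have t1 := hc' 1
      have t2 := hc' 2
      exact hγ ((mul_eq_zero.1 (show 2 * γ = 0 by linear_combination 4 * t1 - t2)).resolve_left h2)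
    have h1 := hall (0 + γ * t + β * t * t / (2 * N)) (γ + β * t / N) β ht (by field_simp; linear_combination N * hu)
    have := root_move hR p h2 hN hcard hg hne hp hw hw' hww hgw _ _ _ (-t) h1
    rw [hc]
    convert this using 2 <;> field_simp <;> ring
  · rw [hc]; exact hall α γ β hα hu

end Closure


end CfsgLib.Sp4Odd
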