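import Cfsg.Agent.Lib.GeomClasses.FrameAll
import Cfsg.Agent.Lib.Sp4Odd.SphereFull

/-!
Frames of five orthogonal vectors over a prime field: a group with the frame generators and one element which is no
signed permutation has every unit vector as a root.
-/

set_option autoImplicit false
set_option linter.unusedSectionVars false

namespace CfsgLib.GeomClasses.Frame

open QuadraticMap CfsgLib.Orth CfsgLib.GeomClasses

variable {ι : Type} [Fintype ι] [DecidableEq ι] {F : Type*} [Field F] [Finite F]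
  {q : QuadraticForm F (ι → F)} {n : ℕ} {b : Fin n → ι → F} {c : F}

/-- Either a pair is usable and leaves three unequal squares, or four squares are a half. -/
theorem five_pair {α : Type*} [DecidableEq α] {S : Finset α} (hS : S.card = 5) (s : α → F) (h2 : (2 : F) ≠ 0)
    (h3 : (3 : F) ≠ 0) (h5 : (5 : F) ≠ 0) (h0 : ∀ i ∈ S, s i ≠ 0) (hsum : ∑ i ∈ S, s i = 1) :
    (∃ i ∈ S, ∃ j ∈ S, i ≠ j ∧ s i + s j ≠ 1 ∧ ¬ (4 * s i = 1 ∧ 4 * s j = 1) ∧
      ∃ l ∈ (S.erase i).erase j, ∃ m ∈ (S.erase i).erase j, s l ≠ s m) ∨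
    (∃ k ∈ S, ∀ i ∈ S.erase k, 2 * s i = 1) ∨ ∀ i ∈ S, 5 * s i = 1 := by
  classical
  have h4 : (4 : F) ≠ 0 := by rw [show (4 : F) = 2 * 2 by norm_num]; exact mul_ne_zero h2 h2
  refine or_iff_not_imp_left.2 fun hno => ?_
  push Not at hno
  -- the two ways a pair fails
  have bad : ∀ i ∈ S, ∀ j ∈ S, i ≠ j → (∃ l ∈ (S.erase i).erase j, ∃ m ∈ (S.erase i).erase j, s l ≠ s m) →
      s i + s j = 1 ∨ (4 * s i = 1 ∧ 4 * s j = 1) := by
    intro i hi j hj hij ⟨l, hl, m, hm, hlm⟩
    by_contra hc
    push Not at hc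
    exact hlm (hno i hi j hj hij hc.1 hc.2 l hl m hm)
  by_cases hT : ∃ i ∈ S, ∃ j ∈ S, i ≠ j ∧ ∀ l ∈ (S.erase i).erase j, ∀ m ∈ (S.erase i).erase j, s l = s m
  · obtain ⟨i, hi, j, hj, hij, heq⟩ := hT
    have hT3 : ((S.erase i).erase j).card = 3 := by
      rw [Finset.card_erase_of_mem (Finset.mem_erase.2 ⟨Ne.symm hij, hj⟩), Finset.card_erase_of_mem hi, hS]
    obtain ⟨m, m', m'', a1, a2, a3, hTe⟩ := Finset.card_eq_three.1 hT3
    have hm : ∀ x ∈ ({m, m', m''} : Finset α), x ≠ j ∧ x ≠ i ∧ x ∈ S ∧ s x = s m := fun x hx => by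
      rw [← hTe] at hx
      have hx' := hx
      simp only [Finset.mem_erase] at hx'
      exact ⟨hx'.1, hx'.2.1, hx'.2.2, heq x hx m (by rw [hTe]; simp)⟩
    obtain ⟨mj, mi, mS, -⟩ := hm m (by simp)
    obtain ⟨m'j, m'i, m'S, em'⟩ := hm m' (by simp)
    obtain ⟨m''j, m''i, m''S, em''⟩ := hm m'' (by simp)
    have htot : s i + s j + 3 * s m = 1 := by
      rw [← Finset.add_sum_erase _ _ hi, ← Finset.add_sum_erase _ _ (Finset.mem_erase.2 ⟨Ne.symm hij, hj⟩), hTe,
        Finset.sum_insert (by simp [a1, a2]), Finset.sum_pair a3, em', em''] at hsum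
      linear_combination hsum
    have hpair : ∀ x, x = i ∨ x = j → s x ≠ s m → s m + s m = 1 ∨ (4 * s m = 1 ∧ 4 * s m = 1) := by
      intro x hx hne
      have := bad m mS m' m'S a1 ⟨x, by
        simp only [Finset.mem_erase]
        rcases hx with rfl | rfl
        exacts [⟨m'i.symm, mi.symm, hi⟩, ⟨m'j.symm, mj.symm, hj⟩], m'', by
        simp only [Finset.mem_erase]; exact ⟨a3.symm, a2.symm, m''S⟩, by rw [em'']; exact hne⟩
      rwa [em'] at this
    have hquart : 4 * s m = 1 → 2 * s m ≠ 1 := fun e e' => one_ne_zero (α := F) (by linear_combination e - 2 * e')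
    by_cases hjm : s j = s m
    · by_cases him : s i = s m
      · refine Or.inr fun x hx => ?_
        have h51 : 5 * s m = 1 := by rw [him, hjm] at htot; linear_combination htot
        rcases eq_or_ne x i with rfl | hxi
        · rw [him]; exact h51
        rcases eq_or_ne x j with rfl | hxj
        · rw [hjm]; exact h51
        · rw [heq x (by simp [hxi, hxj, hx]) m (by rw [hTe]; simp)]; exact h51
      refine Or.inl ⟨i, hi, fun x hx => ?_⟩
      have hxm : s x = s m := by
        obtain ⟨hxi, hxS⟩ := Finset.mem_erase.1 hx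
        rcases eq_or_ne x j with rfl | hxj
        · exact hjm
        · exact heq x (by simp [hxi, hxj, hxS]) m (by rw [hTe]; simp)
      rw [hxm]
      rcases hpair i (Or.inl rfl) him with e | ⟨e, -⟩
      · linear_combination e
      · exact absurd (by rw [hjm] at htot; linear_combination htot - e) (h0 i hi)
    by_cases him : s i = s m
    · refine Or.inl ⟨j, hj, fun x hx => ?_⟩
      have hxm : s x = s m := by
        obtain ⟨hxj, hxS⟩ := Finset.mem_erase.1 hx
        rcases eq_or_ne x i with rfl | hxi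
        · exact him
        · exact heq x (by simp [hxi, hxj, hxS]) m (by rw [hTe]; simp)
      rw [hxm]
      rcases hpair j (Or.inr rfl) hjm with e | ⟨e, -⟩
      · linear_combination e
      · exact absurd (by rw [him] at htot; linear_combination htot - e) (h0 j hj)
    exfalso
    have hi' : s i + s m = 1 ∨ (4 * s i = 1 ∧ 4 * s m = 1) := bad i hi m mS mi.symm
      ⟨j, by simp [mj.symm, hij.symm, hj], m', by simp [a1.symm, m'i, m'S], by rw [em']; exact hjm⟩
    have hj' : s j + s m = 1 ∨ (4 * s j = 1 ∧ 4 * s m = 1) := bad j hj m mS mj.symm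
      ⟨i, by simp [mi.symm, hij, hi], m', by simp [a1.symm, m'j, m'S], by rw [em']; exact him⟩
    have hmm := hpair i (Or.inl rfl) him
    rcases hi' with e1 | ⟨e1, e1'⟩
    · rcases hj' with e2 | ⟨e2, e2'⟩
      · have hm1 : s m = -1 := by linear_combination htot - e1 - e2
        rcases hmm with e3 | ⟨e3, -⟩
        · exact h3 (by rw [hm1] at e3; linear_combination -e3)
        · exact h5 (by rw [hm1] at e3; linear_combination -e3)
      · exact hjm (mul_left_cancel₀ h4 (e2.trans e2'.symm))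
    · exact him (mul_left_cancel₀ h4 (e1.trans e1'.symm))
  · exfalso
    push Not at hT
    have bad' : ∀ i ∈ S, ∀ j ∈ S, i ≠ j → ¬ (4 * s i = 1 ∧ 4 * s j = 1) → s i + s j = 1 := fun i hi j hj hij hq =>
      (bad i hi j hj hij (hT i hi j hj hij)).resolve_right hq
    set Q := S.filter fun i => 4 * s i = 1
    have hQ : (S \ Q).card + Q.card = 5 := by
      rw [Finset.card_sdiff_add_card_eq_card (Finset.filter_subset _ _), hS]
    have hQ4 : ¬ 4 ≤ Q.card := fun h => by
      obtain ⟨D, hD, hDc⟩ := Finset.exists_subset_card_eq h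
      have hDS : D ⊆ S := hD.trans (Finset.filter_subset _ _)
      obtain ⟨k, hk⟩ := Finset.card_eq_one.1 (show (S \ D).card = 1 by rw [Finset.card_sdiff_of_subset hDS]; omega)
      rw [← Finset.sum_sdiff hDS, hk, Finset.sum_singleton] at hsum
      refine h0 k ((Finset.sdiff_subset : S \ D ⊆ S) (by rw [hk]; simp)) ?_
      have e4 : ∑ x ∈ D, 4 * s x = 4 := by
        rw [Finset.sum_congr rfl fun x hx => (Finset.mem_filter.1 (hD hx)).2, Finset.sum_const, hDc]; simp
      rw [← Finset.mul_sum] at e4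
      exact mul_left_cancel₀ h4 (by linear_combination 4 * hsum - e4)
    obtain ⟨A, hA, hAc⟩ := Finset.exists_subset_card_eq (show 2 ≤ (S \ Q).card by omega)
    obtain ⟨x, y, hxy, rfl⟩ := Finset.card_eq_two.1 hAc
    have hx : x ∈ S \ Q := hA (by simp)
    have hy : y ∈ S \ Q := hA (by simp)
    simp only [Finset.mem_sdiff, Q, Finset.mem_filter, not_and] at hx hy
    obtain ⟨z, hz, z', hz', hzz⟩ := Finset.one_lt_card.1 (show 1 < ((S.erase x).erase y).card by
      rw [Finset.card_erase_of_mem (Finset.mem_erase.2 ⟨hxy.symm, hy.1⟩), Finset.card_erase_of_mem hx.1]; omega)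
    simp only [Finset.mem_erase] at hz hz'
    have exy := bad' x hx.1 y hy.1 hxy fun h => hx.2 hx.1 h.1
    have half : ∀ w, w ≠ x → w ≠ y → w ∈ S → 2 * s w = 1 ∧ 2 * s x = 1 ∧ 2 * s y = 1 := by
      intro w hwx hwy hwS
      have e1 := bad' x hx.1 w hwS hwx.symm fun h => hx.2 hx.1 h.1
      have e2 := bad' y hy.1 w hwS hwy.symm fun h => hy.2 hy.1 h.1
      exact ⟨by linear_combination e1 + e2 - exy, by linear_combination exy + e1 - e2,
        by linear_combination exy + e2 - e1⟩
    obtain ⟨hz1, hx1, hy1⟩ := half z hz.2.1 hz.1 hz.2.2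
    obtain ⟨l, hl, m, hm, hlm⟩ := hT x hx.1 y hy.1 hxy
    simp only [Finset.mem_erase] at hl hm
    exact hlm (mul_left_cancel₀ h2 ((half l hl.2.1 hl.1 hl.2.2).1.trans (half m hm.2.1 hm.1 hm.2.2).1.symm))

variable (h : IsFrame q b c) {X : Subgroup (O q)} (hX : HasGens b X) (p : ℕ) [Fact p.Prime] [CharP F p]
  (hcard : Nat.card F = p) (hn : n = 5)
include h hX

/-- Even permutations of the coordinates of a root. -/
theorem IsFrame.phi_even {f : ι → F} (hf : Phi q b c X f) (hn0 : 0 < n) (σ : Equiv.Perm (Fin n))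
    (hσ : Equiv.Perm.sign σ = 1) : Phi q b c X (app (h.perm σ) f) :=
  h.phi_move hX hf (h.perm_mem hX hσ) (a := ⟨0, hn0⟩) (Or.inl (h.perm_b σ _))

omit hX in
theorem IsFrame.ip_vec {i j : Fin n} (hij : i ≠ j) {u : ι → F} (hi : co q b c i u = 0) (hj : co q b c j u = 0)
    (x y : Fin 3 → F) : ip q c (x 0 • b i + x 1 • b j + x 2 • u) (y 0 • b i + y 1 • b j + y 2 • u) =
      SphereThree.ip3 (ip q c u u) x y := by
  have e1 : ip q c (b i) u = 0 := by rw [ip_comm]; exact hi
  have e2 : ip q c (b j) u = 0 := by rw [ip_comm]; exact hj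
  have e3 : ip q c u (b i) = 0 := hi
  have e4 : ip q c u (b j) = 0 := hj
  simp only [ip_add_left, ip_add_right, ip_smul_left, ip_smul_right, h.ip_b, if_pos, if_neg hij,
    if_neg (Ne.symm hij), e1, e2, e3, e4, SphereThree.ip3]
  ring

theorem IsFrame.flipSet {i j : Fin n} (hij : i ≠ j) {u : ι → F} (hi : co q b c i u = 0) (hj : co q b c j u = 0) :
    CfsgLib.Sp4Odd.IsFlipSet (ip q c u u) {x : Fin 3 → F | Phi q b c X (x 0 • b i + x 1 • b j + x 2 • u)} where
  unit x hx := by
    rw [← h.ip_vec hij hi hj]; exact (h.unit_iff _).1 hx.1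
  refl x hx y hy := by
    have h1 := h.phi_refl hx hy
    rw [h.refl_unit hx.1, h.ip_vec hij hi hj] at h1
    change Phi q b c X _
    convert h1 using 1
    simp only [Pi.sub_apply, Pi.smul_apply, smul_eq_mul]
    module
  neg x hx := by
    have h1 := h.phi_neg hx
    change Phi q b c X _
    convert h1 using 1
    simp only [Pi.neg_apply]
    module
  e₀ := by
    change Phi q b c X _
    simpa using h.phi_b hX i
  e₁ := by
    change Phi q b c X _
    simpa using h.phi_b hX j

include hcard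

/-- A root with two nonzero coordinates beside a vector: everything, or the vector carries a root, or two quarters. -/
theorem IsFrame.plane_cases (h5 : 5 ≤ p) {i j : Fin n} (hij : i ≠ j) {u : ι → F} (hi : co q b c i u = 0)
    (hj : co q b c j u = 0) (hN : ip q c u u ≠ 0) {f : Fin 3 → F}
    (hf : Phi q b c X (f 0 • b i + f 1 • b j + f 2 • u)) (hx : f 0 ≠ 0) (hy : f 1 ≠ 0) (hz : f 2 ≠ 0) :
    (∀ x : Fin 3 → F, SphereThree.ip3 (ip q c u u) x x = 1 → Phi q b c X (x 0 • b i + x 1 • b j + x 2 • u)) ∨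
      (∃ s : F, Phi q b c X (s • u)) ∨ (4 * f 0 ^ 2 = 1 ∧ 4 * f 1 ^ 2 = 1) := by
  rcases CfsgLib.Sp4Odd.flip_cases (h.flipSet hX hij hi hj) p h.two hN hf hx hy hz with
    ⟨g, hg, hne, hp⟩ | ⟨s, hs⟩ | hq
  · exact Or.inl fun x hx' =>
      CfsgLib.Sp4Odd.full_of_unip (h.flipSet hX hij hi hj) p h.two hN hcard h5 hg hne hp x hx'
  · refine Or.inr (Or.inl ⟨s, ?_⟩)
    simpa using (hs : Phi q b c X _)
  · exact Or.inr (Or.inr hq)

/-- A root and its mirror image give every unit vector of the three-space. -/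
theorem IsFrame.plane_sym (h5 : 5 ≤ p) {i j : Fin n} (hij : i ≠ j) {u : ι → F} (hi : co q b c i u = 0)
    (hj : co q b c j u = 0) (hN : ip q c u u ≠ 0) {f : Fin 3 → F}
    (hf : Phi q b c X (f 0 • b i + f 1 • b j + f 2 • u)) (hf' : Phi q b c X (f 1 • b i + f 0 • b j + f 2 • u))
    (hz : f 2 ≠ 0) (hxy : f 0 ≠ 0 ∨ f 1 ≠ 0)
    (hb₀ : ¬ (f 1 = 0 ∧ 2 * f 0 ^ 2 = 1)) (hb₁ : ¬ (f 0 = 0 ∧ 2 * f 1 ^ 2 = 1))
    (hb₂ : ¬ (4 * f 0 ^ 2 = 1 ∧ 4 * f 1 ^ 2 = 1)) (x : Fin 3 → F)
    (hx : SphereThree.ip3 (ip q c u u) x x = 1) : Phi q b c X (x 0 • b i + x 1 • b j + x 2 • u) := by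
  have S := h.flipSet hX hij hi hj
  set R := {x : Fin 3 → F | Phi q b c X (x 0 • b i + x 1 • b j + x 2 • u)} with hRdef
  let sw : (Fin 3 → F) → (Fin 3 → F) := fun x => ![x 1, x 0, x 2]
  have hsw : ∀ x y, SphereThree.ip3 (ip q c u u) (sw x) (sw y) = SphereThree.ip3 (ip q c u u) x y := fun x y => by
    simp [sw, SphereThree.ip3]; ring
  have hR : SphereThree.IsRootSet (ip q c u u) {x | x ∈ R ∧ sw x ∈ R} :=
    { unit := fun x hx => S.unit x hx.1
      refl := fun x hx y hy => ⟨S.refl x hx.1 y hy.1, by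
        have h1 := S.refl _ hx.2 _ hy.2
        rw [hsw] at h1
        convert h1 using 1
        ext k; fin_cases k <;> simp [sw]⟩
      neg := fun x hx => ⟨S.neg x hx.1, by
        convert S.neg _ hx.2 using 1
        ext k; fin_cases k <;> simp [sw]⟩
      e₀ := ⟨S.e₀, by simpa [sw] using S.e₁⟩
      e₁ := ⟨S.e₁, by simpa [sw] using S.e₀⟩
      swap := fun x hx => ⟨hx.2, by
        convert hx.1 using 1
        ext k; fin_cases k <;> simp [sw]⟩ }
  exact (SphereThree.full hR p h.two hN hcard h5 (f := f) ⟨hf, by simpa [sw, hRdef] using hf'⟩ hz hxy hb₀ hb₁ hb₂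
    x hx).1

omit hX hcard in
/-- The part of a vector off two frame vectors. -/
theorem IsFrame.off_pair {i j : Fin n} (hij : i ≠ j) (f : ι → F) :
    let u := f - co q b c i f • b i - co q b c j f • b j
    co q b c i u = 0 ∧ co q b c j u = 0 ∧ (∀ l, l ≠ i → l ≠ j → co q b c l u = co q b c l f) ∧
      f = co q b c i f • b i + co q b c j f • b j + (1 : F) • u ∧
      (q f = c → ip q c u u = 1 - (co q b c i f ^ 2 + co q b c j f ^ 2)) := by
  intro u
  have huco : ∀ l, co q b c l u = co q b c l f - (if i = l then co q b c i f else 0) -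
      (if j = l then co q b c j f else 0) := fun l => by
    simp only [u, co_sub, co_smul, h.co_b]; split_ifs <;> ring
  have hui : co q b c i u = 0 := by rw [huco]; simp [hij.symm]
  have huj : co q b c j u = 0 := by rw [huco]; simp [hij]
  refine ⟨hui, huj, fun l h1 h2 => by rw [huco, if_neg h1.symm, if_neg h2.symm]; ring, by simp only [u]; module,
    fun hf => ?_⟩
  have e := h.ip_vec hij hui huj ![co q b c i f, co q b c j f, 1] ![co q b c i f, co q b c j f, 1]
  simp only [Matrix.cons_val_zero, Matrix.cons_val_one, Matrix.cons_val] at e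
  rw [← show f = co q b c i f • b i + co q b c j f • b j + (1 : F) • u by simp only [u]; module,
    (h.unit_iff f).1 hf] at e
  simp [SphereThree.ip3] at e
  linear_combination -e

omit hX hcard in
/-- The support of a combination of a frame vector and a vector off it. -/
theorem IsFrame.supp_axis {i j : Fin n} (hij : i ≠ j) {f : ι → F} {x z : F} (hx : x ≠ 0) (hz : z ≠ 0)
    (hi : i ∈ supp q b c f) (hj : j ∈ supp q b c f) :
    let g := x • b i + (0 : F) • b j + z • (f - co q b c i f • b i - co q b c j f • b j)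
    supp q b c g = (supp q b c f).erase j ∧ ∀ l, l ≠ i → l ≠ j → co q b c l g = z * co q b c l f := by
  intro g
  obtain ⟨hui, huj, huo, -, -⟩ := h.off_pair hij f
  have hgco : ∀ l, co q b c l g = (if i = l then x else 0) +
      z * co q b c l (f - co q b c i f • b i - co q b c j f • b j) := fun l => by
    simp only [g, co_add, co_smul, h.co_b]; split_ifs <;> ring
  refine ⟨?_, fun l h1 h2 => by rw [hgco, huo l h1 h2, if_neg h1.symm, zero_add]⟩
  ext l
  rw [mem_supp, Finset.mem_erase, mem_supp, hgco]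
  rcases eq_or_ne l i with rfl | h1
  · simp [hui, hx, hij, mem_supp.1 hi]
  rcases eq_or_ne l j with rfl | h2
  · simp [huj, hij]
  · simp [h1.symm, h2, huo l h1 h2, hz]

include hn

/-- A root on four frame vectors, not four quarters, gives one on three. -/
theorem IsFrame.four_three (h7 : 7 ≤ p) {f : ι → F} (hf : Phi q b c X f) (hc : (supp q b c f).card = 4)
    (hnq : ∃ i ∈ supp q b c f, 4 * co q b c i f ^ 2 ≠ 1) :
    ∃ g, Phi q b c X g ∧ (supp q b c g).card = 3 := by
  classical
  set S := supp q b c f with hS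
  set s := fun i => co q b c i f ^ 2 with hs
  have hs0 : ∀ i ∈ S, s i ≠ 0 := fun i hi => pow_ne_zero 2 (mem_supp.1 hi)
  have hsum : ∑ i ∈ S, s i = 1 := h.sum_sq_supp hf.1
  have finish : ∀ i ∈ S, ∀ j ∈ S, i ≠ j → ip q c (f - co q b c i f • b i - co q b c j f • b j)
      (f - co q b c i f • b i - co q b c j f • b j) ≠ 0 →
      (∀ x : Fin 3 → F, SphereThree.ip3 (ip q c (f - co q b c i f • b i - co q b c j f • b j)
        (f - co q b c i f • b i - co q b c j f • b j)) x x = 1 →
        Phi q b c X (x 0 • b i + x 1 • b j + x 2 • (f - co q b c i f • b i - co q b c j f • b j))) →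
      ∃ g, Phi q b c X g ∧ (supp q b c g).card = 3 := by
    intro i hi j hj hij hN hall
    obtain ⟨x, z, hx, hz, hxz⟩ := exists_off_axes p h7 hN
    have hg := hall ![x, 0, z] (by simp [SphereThree.ip3]; linear_combination hxz)
    simp only [Matrix.cons_val_zero, Matrix.cons_val_one, Matrix.cons_val] at hg
    refine ⟨_, hg, ?_⟩
    rw [(h.supp_axis hij hx hz hi hj).1, Finset.card_erase_of_mem hj, hc]
  by_cases heq : ∃ k ∈ S, ∃ l ∈ S, k ≠ l ∧ s k = s l
  · obtain ⟨k, hk, l, hl, hkl, hkls⟩ := heq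
    obtain ⟨i, j, hij, he⟩ := Finset.card_eq_two.1 (show ((S.erase k).erase l).card = 2 by
      rw [Finset.card_erase_of_mem (Finset.mem_erase.2 ⟨hkl.symm, hl⟩), Finset.card_erase_of_mem hk]; omega)
    have hi : i ∈ (S.erase k).erase l := by rw [he]; simp
    have hj : j ∈ (S.erase k).erase l := by rw [he]; simp
    simp only [Finset.mem_erase] at hi hj
    have hsum' : s k + (s l + (s i + s j)) = 1 := by
      rw [← Finset.add_sum_erase _ _ hk, ← Finset.add_sum_erase _ _ (Finset.mem_erase.2 ⟨hkl.symm, hl⟩), he,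
        Finset.sum_pair hij] at hsum
      exact hsum
    obtain ⟨hui, huj, huo, hfu, hN'⟩ := h.off_pair hij f
    set u := f - co q b c i f • b i - co q b c j f • b j
    have hN : ip q c u u ≠ 0 := by
      rw [hN' hf.1]
      intro e
      exact hs0 k hk ((mul_eq_zero.1 (show 2 * s k = 0 by
        simp only [hs] at hsum' hkls ⊢; linear_combination hsum' + e + hkls)).resolve_left h.two)
    have hb₂ : ¬ (4 * s i = 1 ∧ 4 * s j = 1) := by
      rintro ⟨e1, e2⟩
      obtain ⟨w, hw, hwq⟩ := hnq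
      refine hwq ?_
      have h4 : 4 * s k = 1 := mul_left_cancel₀ h.two (by
        linear_combination 4 * hsum' - e1 - e2 + 4 * hkls)
      have : w ∈ ({k, l, i, j} : Finset (Fin n)) := by
        by_cases w1 : w = k
        · simp [w1]
        by_cases w2 : w = l
        · simp [w2]
        have : w ∈ (S.erase k).erase l := Finset.mem_erase.2 ⟨w2, Finset.mem_erase.2 ⟨w1, hw⟩⟩
        rw [he] at this; simp at this ⊢; tauto
      simp at this
      rcases this with rfl | rfl | rfl | rfl
      exacts [h4, by simp only [hs] at hkls h4; linear_combination h4 - 4 * hkls, e1, e2]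
    refine finish i hi.2.2 j hj.2.2 hij hN fun x hx => ?_
    have hf1 : Phi q b c X (co q b c i f • b i + co q b c j f • b j + (1 : F) • u) := by rwa [← hfu]
    refine h.plane_sym hX p hcard (by omega) hij hui huj hN (f := ![co q b c i f, co q b c j f, 1])
      (by simpa using hf1) ?_ (by simp) (Or.inl (by simp [mem_supp.1 hi.2.2]))
      (by simp [mem_supp.1 hj.2.2]) (by simp [mem_supp.1 hi.2.2]) (by simpa [hs] using hb₂) x hx
    simp only [Matrix.cons_val_zero, Matrix.cons_val_one, Matrix.cons_val]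
    refine h.phi_of_sq hX (h.phi_even hX hf (by omega) (Equiv.swap i j * Equiv.swap k l) (by
      rw [map_mul, Equiv.Perm.sign_swap hij, Equiv.Perm.sign_swap hkl]; simp)) fun y => ?_
    rw [h.co_perm, co_add, co_add, co_smul, co_smul, co_smul, h.co_b, h.co_b, Equiv.Perm.mul_def, Equiv.symm_trans_apply,
      Equiv.symm_swap, Equiv.symm_swap]
    rcases eq_or_ne y i with rfl | y1
    · simp [hij.symm, hui, Equiv.swap_apply_of_ne_of_ne, hj.1, hj.2.1]
    rcases eq_or_ne y j with rfl | y2
    · simp [hij, huj, Equiv.swap_apply_of_ne_of_ne, hi.1, hi.2.1]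
    simp only [if_neg y1.symm, if_neg y2.symm, huo y y1 y2, mul_zero, zero_add, one_mul]
    rcases eq_or_ne y k with rfl | y3
    · simp [Equiv.swap_apply_of_ne_of_ne, y1, y2]; exact hkls
    rcases eq_or_ne y l with rfl | y4
    · simp [Equiv.swap_apply_of_ne_of_ne, y1, y2]; exact hkls.symm
    · simp [Equiv.swap_apply_of_ne_of_ne, y1, y2, y3, y4]
  push Not at heq
  obtain ⟨i, hi, j, hj, hij, hne1⟩ : ∃ i ∈ S, ∃ j ∈ S, i ≠ j ∧ s i + s j ≠ 1 := by
    by_contra hcon
    push Not at hcon
    obtain ⟨T, hT, hTc⟩ := Finset.exists_subset_card_eq (show 3 ≤ S.card by omega)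
    obtain ⟨a, b', d, hab, had, hbd, rfl⟩ := Finset.card_eq_three.1 hTc
    exact heq b' (hT (by simp)) d (hT (by simp)) hbd (by
      linear_combination hcon a (hT (by simp)) b' (hT (by simp)) hab - hcon a (hT (by simp)) d (hT (by simp)) had)
  obtain ⟨hui, huj, huo, hfu, hN'⟩ := h.off_pair hij f
  set u := f - co q b c i f • b i - co q b c j f • b j with hu
  have hN : ip q c u u ≠ 0 := by rw [hN' hf.1]; exact sub_ne_zero.2 hne1.symm
  rcases h.plane_cases hX p hcard (by omega) hij hui huj hN (f := ![co q b c i f, co q b c j f, 1])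
      (by have h1 := hf; rw [hfu] at h1; simpa using h1) (by simp [mem_supp.1 hi]) (by simp [mem_supp.1 hj]) (by simp) with hall | ⟨t, ht⟩ | hq
  · exact finish i hi j hj hij hN hall
  · have ht0 : t ≠ 0 := fun e => by
      have := (h.unit_iff _).1 ht.1
      rw [e, zero_smul] at this
      simp [ip] at this
    obtain ⟨k, l, hkl, he⟩ := Finset.card_eq_two.1 (show ((S.erase i).erase j).card = 2 by
      rw [Finset.card_erase_of_mem (Finset.mem_erase.2 ⟨hij.symm, hj⟩), Finset.card_erase_of_mem hi]; omega)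
    have hsu : supp q b c (t • u) = {k, l} := by
      rw [← he]
      ext y
      simp only [Finset.mem_erase, hS, mem_supp, co_smul]
      rcases eq_or_ne y i with rfl | y1
      · simp [hui]
      rcases eq_or_ne y j with rfl | y2
      · simp [huj]
      · simp [y1, y2, huo y y1 y2, ht0]
    have hk : k ∈ (S.erase i).erase j := by rw [he]; simp
    have hl : l ∈ (S.erase i).erase j := by rw [he]; simp
    simp only [Finset.mem_erase] at hk hl
    refine h.supp_two_step hX (by omega) ht hkl hsu fun e => heq k hk.2.2 l hl.2.2 hkl ?_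
    have e2 := h.sum_sq_supp ht.1
    rw [hsu, Finset.sum_pair hkl] at e2
    rw [co_smul, huo l hl.2.1 hl.1] at e
    rw [co_smul, co_smul, huo l hl.2.1 hl.1, huo k hk.2.1 hk.1] at e2
    refine mul_left_cancel₀ (pow_ne_zero 2 ht0) ?_
    simp only [hs]
    linear_combination e2 - e
  · exact absurd (mul_left_cancel₀ (show (4 : F) ≠ 0 by
      rw [show (4 : F) = 2 * 2 by norm_num]; exact mul_ne_zero h.two h.two)
      (show 4 * s i = 4 * s j by simp only [Matrix.cons_val_zero, Matrix.cons_val_one] at hq; exact hq.1.trans hq.2.symm)) (heq i hi j hj hij)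

end CfsgLib.GeomClasses.Frame
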