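import Cfsg.Agent.Lib.Sp4Odd.RootRing
import Cfsg.Agent.Lib.GeomClasses.SympSubfield

/-!
Subfield groups are maximal in symplectic groups of odd characteristic, dimension four included.
-/

set_option autoImplicit false
set_option linter.unusedSectionVars false

namespace CfsgLib.Sp4Odd

open Matrix CfsgLib.GeomClasses CfsgLib.GeomClasses.SympRoot

variable {ι : Type} [Fintype ι] [DecidableEq ι] {F : Type*} [Field F] [Fintype F]
  {f : (ι → F) → (ι → F) → F} {F₀ : Subfield F} {M : Subgroup (GL ι F)}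

theorem rv_of_values (S : RootSetting f F₀ M) {x : ι → F} (h : ∀ i, f x (Pi.single i 1) ∈ F₀) : Rv F₀ x := by
  let up : (ι → F₀) → ι → F := fun y i => (y i : F)
  have hup : ∀ y, Rv F₀ (up y) := fun y i => (y i).2
  let A : (ι → F₀) → (ι → F₀) := fun y i => ⟨f (up y) (Pi.single i 1), S.rat _ _ (hup y) (Rv.single i)⟩
  have hinj : Function.Injective A := by
    intro y y' he
    have := eq_zero_of_single S.symp (x := up y - up y') fun i => by
      rw [Symp.sub_left S.symp, sub_eq_zero]; exact congrArg Subtype.val (congrFun he i)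
    funext i
    exact Subtype.ext (congrFun (sub_eq_zero.1 this) i)
  obtain ⟨y, hy⟩ := Finite.surjective_of_injective hinj fun i => ⟨_, h i⟩
  rw [← sub_eq_zero.1 (eq_zero_of_single S.symp (x := up y - x) fun i => by
    rw [Symp.sub_left S.symp, sub_eq_zero]; exact congrArg Subtype.val (congrFun hy i))]
  exact hup y

/-- Commuting a root element with a rational transvection. -/
theorem root_rational_part (S : RootSetting f F₀ M) {u w z : ι → F} (huw : f u w = 0) (hz : Rv F₀ z)
    (huz : f u z = 0) {c : F} (h : root f u w c ∈ M) :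
    root f u (f w z • z) (f w z * f w z) ∈ M := by
  have hg := S.mem z hz 1 F₀.one_mem
  have h1 := M.mul_mem (M.mul_mem hg h) (M.inv_mem hg)
  rw [root_conj S.symp (Symp.formTv_isometry S.symp _ _), Symp.formTv_mulVec S.symp, huz, mul_zero, zero_smul,
    add_zero, Symp.formTv_mulVec S.symp, one_mul] at h1
  have h2 := M.mul_mem (M.inv_mem h) h1
  have h3 : f u (w + f w z • z) = 0 := by
    rw [Symp.add_right S.symp, Symp.smul_right S.symp, huw, huz, mul_zero, add_zero]
  rw [root_inv S.symp huw, root_mul S.symp (by rw [Symp.neg_right S.symp, huw, neg_zero]) h3,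
    neg_add_cancel_left, neg_add_cancel, zero_add, Symp.neg_right S.symp, Symp.add_left S.symp,
    Symp.smul_left S.symp, S.symp.alternating, zero_add, S.symp.skew z w, mul_neg, neg_neg] at h2
  exact h2

theorem short_mem (S : RootSetting f F₀ M) (hL : ∀ c ∈ longSet f F₀ M, c ∈ F₀) {s : F} (hs : s ∈ shortSet f F₀ M) :
    s ∈ F₀ := hL s (short_le_long S hs)

theorem false_of_killed (S : RootSetting f F₀ M) (hL : ∀ c ∈ longSet f F₀ M, c ∈ F₀) {v : ι → F}
    (hv : ∀ c : F, ∀ a, Rv F₀ a → v ≠ c • a) {d : F} (hd : d ∈ F₀) (hd0 : d ≠ 0) (h : formTv f v d ∈ M)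
    {u : ι → F} (hu : Rv F₀ u) (hu0 : u ≠ 0) (huv : f u v = 0) : False := by
  obtain ⟨a, ha, hua, hva⟩ := S.exists_orth hu hu0 fun c => hv c u hu
  have hvu : f v u = 0 := by rw [S.symp.skew, huv, neg_zero]
  set l := f v a with hl
  have hh := (S.rat_root hu ha F₀.zero_mem).1
  have h1 := M.mul_mem (M.mul_mem hh h) (M.inv_mem hh)
  rw [Symp.conj_formTv S.symp (root_isometry S.symp _ _ _), root_mulVec S.symp hua, hvu, zero_smul, add_zero,
    mul_zero, zero_smul, add_zero, formTv_add_smul S.symp huv] at h1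
  have hR := M.mul_mem (M.inv_mem h) h1
  rw [inv_mul_cancel_left] at hR
  set w := (d * l) • v with hw
  clear_value w
  have huw : f u w = 0 := by rw [hw, Symp.smul_right S.symp, huv, mul_zero]
  have hk : ∀ z, Rv F₀ z → f u z = 0 → f w z ∈ F₀ := by
    intro z hz huz
    by_cases hzu : ∃ c : F, z = c • u
    · obtain ⟨c, rfl⟩ := hzu
      rw [Symp.smul_right S.symp, S.symp.skew w u, huw, neg_zero, mul_zero]
      exact F₀.zero_mem
    push Not at hzu
    exact short_mem S hL (S.split hu hz hu0 huz hzu (root_rational_part S huw hz huz hR)).2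
  have hc : d * l * l ∈ F₀ := by
    have := hk a ha hua
    rwa [hw, Symp.smul_left S.symp, ← hl] at this
  obtain ⟨p, hp, hup⟩ := S.partner hu hu0
  set μ := f w p with hμ
  clear_value μ
  set a0 := w - μ • u with ha0
  clear_value a0
  have ha0R : Rv F₀ a0 := by
    refine rv_of_values S fun i => ?_
    have h2 := hk (Pi.single i 1 - f u (Pi.single i 1) • p)
      ((Rv.single i).sub (hp.smul (S.rat _ _ hu (Rv.single i))))
      (by rw [Symp.sub_right S.symp, Symp.smul_right S.symp, hup, mul_one, sub_self])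
    rw [Symp.sub_right S.symp, Symp.smul_right S.symp] at h2
    rwa [ha0, Symp.sub_left S.symp, Symp.smul_left S.symp, hμ, mul_comm (f w p)]
  have hdl : d * l ≠ 0 := mul_ne_zero hd0 hva
  have hvw : v = (d * l)⁻¹ • w := by rw [hw, smul_smul, inv_mul_cancel₀ hdl, one_smul]
  have hwa : w = a0 + μ • u := by rw [ha0, sub_add_cancel]
  have hμ' : μ ∉ F₀ := fun hm => hv _ w (hwa ▸ ha0R.add (hu.smul hm)) hvw
  have hua0 : f u a0 = 0 := by
    rw [ha0, Symp.sub_right S.symp, Symp.smul_right S.symp, huw, S.symp.alternating, mul_zero, sub_zero]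
  have hk0 : (d * l * l)⁻¹ ≠ 0 := inv_ne_zero (mul_ne_zero hdl hva)
  have hkF : (d * l * l)⁻¹ ∈ F₀ := F₀.inv_mem hc
  have h3 : formTv f w (d * l * l)⁻¹ ∈ M := by
    rw [hvw, Symp.formTv_smul S.symp] at h
    rwa [show (d * l)⁻¹ * (d * l)⁻¹ * d = (d * l * l)⁻¹ by field_simp] at h
  rw [hwa, formTv_add_smul S.symp hua0] at h3
  have h4 := M.mul_mem (M.inv_mem (S.mem a0 ha0R _ hkF)) h3
  rw [inv_mul_cancel_left] at h4
  have hne : ∀ c : F, a0 ≠ c • u := fun c hc' =>
    hv ((d * l)⁻¹ * (c + μ)) u hu (by rw [mul_smul, add_smul, ← hc', ← hwa, ← hvw])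
  have h5 := short_mem S hL (S.split hu ha0R hu0 hua0 hne h4).2
  have h6 := F₀.div_mem h5 hkF
  rw [mul_div_cancel_left₀ μ hk0] at h6
  exact hμ' h6

theorem false_of_injective_odd (S : RootSetting f F₀ M) (hL : ∀ c ∈ longSet f F₀ M, c ∈ F₀) 
    {v : ι → F} (hinj : ∀ u, Rv F₀ u → f u v = 0 → u = 0) {d : F} (hd0 : d ≠ 0) (h : formTv f v d ∈ M) :
    False := by
  have hf := S.symp
  have h2 := S.two
  obtain ⟨a, b, ha, hb, ha0, hab, hi⟩ := S.exists_pair
  obtain ⟨-, z, -, hz, -, -, haz, hbz⟩ := S.partners ha hb ha0 hab hi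
  have hzi : z ∉ Submodule.span F ({a, b} : Set (ι → F)) := by
    intro hm
    obtain ⟨x, y, hxy⟩ := Submodule.mem_span_pair.1 hm
    have e := congrArg (fun t => f b t) hxy
    simp only [Symp.add_right hf, Symp.smul_right hf, hf.alternating, hf.skew b a, hab, neg_zero, mul_zero,
      add_zero, hbz] at e
    exact zero_ne_one e
  set l := f a v with hl
  have hl0 : l ≠ 0 := fun h0 => ha0 (hinj a ha h0)
  have hva : f v a = -l := hf.skew v a
  -- the orthogonal decomposition along the plane of `a` and `v`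
  have hdec : ∀ y, ∃ y0, f y0 a = 0 ∧ f y0 v = 0 ∧ y = y0 + (f y v / l) • a + (f a y / l) • v := by
    intro y
    refine ⟨y - (f y v / l) • a - (f a y / l) • v, ?_, ?_, by abel⟩
    · rw [Symp.sub_left hf, Symp.sub_left hf, Symp.smul_left hf, Symp.smul_left hf, hf.alternating, hva,
        hf.skew y a]
      field_simp
      ring
    · rw [Symp.sub_left hf, Symp.sub_left hf, Symp.smul_left hf, Symp.smul_left hf, hf.alternating, ← hl]
      field_simp
      ring
  have hplane : ∀ x, (∀ y, f y a = 0 → f y v = 0 → f y x = 0) → x = (f x v / l) • a + (f a x / l) • v := by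
    intro x hx
    refine sub_eq_zero.1 (eq_zero_of_single hf fun i => ?_)
    obtain ⟨y0, h1, h3, hy⟩ := hdec (Pi.single i 1)
    have h4 : f x y0 = 0 := by rw [hf.skew, hx y0 h1 h3, neg_zero]
    have h5 : f a y0 = 0 := by rw [hf.skew, h1, neg_zero]
    have h6 : f v y0 = 0 := by rw [hf.skew, h3, neg_zero]
    rw [hy]
    simp only [Symp.sub_left hf, Symp.add_left hf, Symp.smul_left hf, Symp.add_right hf, Symp.smul_right hf,
      h4, h5, h6, hf.alternating, hva, ← hl, hf.skew x a]
    field_simp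
    ring
  let W : Subgroup (GL ι F) :=
    { carrier := {g | ∀ y, f y a = 0 → f y v = 0 → (g : Matrix ι ι F) *ᵥ y = y}
      one_mem' := fun y _ _ => by simp
      mul_mem' := fun {g k} hg hk y h1 h3 => by rw [gl_mul_mulVec, hk y h1 h3, hg y h1 h3]
      inv_mem' := fun {g} hg y h1 h3 => by
        conv_lhs => rw [← hg y h1 h3]
        rw [gl_inv_mulVec_mulVec] }
  set G := M ⊓ W with hG
  have himg : ∀ g ∈ G, ∀ x, f x a = 0 → f x v = 0 → ∀ y, f x ((g : Matrix ι ι F) *ᵥ y) = f x y := by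
    intro g hg x h1 h3 y
    have := S.isometry g hg.1 x y
    rwa [hg.2 x h1 h3] at this
  have hline : ∀ b' c : F, ∀ x : ι → F, c ≠ 0 → formTv f x c = formTv f a b' → ∃ t : F, x = t • a := by
    intro b' c x hc he
    by_cases hx : x = 0
    · exact ⟨0, by rw [hx, zero_smul]⟩
    obtain ⟨y, hy⟩ := (hf.nondegenerate x hx).1
    have h1 : (formTv f x c : Matrix ι ι F) *ᵥ y = (formTv f a b' : Matrix ι ι F) *ᵥ y := by rw [he]
    rw [Symp.formTv_mulVec hf, Symp.formTv_mulVec hf, add_right_inj] at h1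
    have hy' : c * f y x ≠ 0 := mul_ne_zero hc (by first | exact hy | exact Symp.ne_zero_comm hf hy)
    exact ⟨(c * f y x)⁻¹ * (b' * f y a), by rw [mul_smul, ← h1, inv_smul_smul₀ hy']⟩
  have hstab : ∀ g ∈ G, (∃ t : F, (g : Matrix ι ι F) *ᵥ a = t • a) → ∃ x ∈ F₀, g = formTv f a x := by
    rintro g hg ⟨t, ht⟩
    have hcoef : ∀ u, Rv F₀ u → f a u = 0 → (∀ c : F, u ≠ c • a) → f u v / l * (t - 1) ∈ F₀ := by
      intro u hu hau hui
      set e := f u v / l with he
      have hgu : (g : Matrix ι ι F) *ᵥ u = u + (e * (t - 1)) • a := by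
        have h1 : f (u - e • a) a = 0 := by
          rw [Symp.sub_left hf, Symp.smul_left hf, hf.alternating, hf.skew, hau]; ring
        have h3 : f (u - e • a) v = 0 := by
          rw [Symp.sub_left hf, Symp.smul_left hf, ← hl, he, div_mul_cancel₀ _ hl0, sub_self]
        have h4 := hg.2 _ h1 h3
        rw [mulVec_sub, mulVec_smul, ht, sub_eq_iff_eq_add] at h4
        rw [h4, smul_smul]
        module
      have h1 := M.mul_mem (M.mul_mem hg.1 (S.mem u hu 1 F₀.one_mem)) (M.inv_mem hg.1)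
      rw [Symp.conj_formTv hf (S.isometry g hg.1), hgu, formTv_add_smul hf hau, one_mul] at h1
      have h3 := M.mul_mem (M.inv_mem (S.mem u hu 1 F₀.one_mem)) h1
      rw [inv_mul_cancel_left] at h3
      exact short_mem S hL (S.split ha hu ha0 hau hui h3).2
    have ht1 : t = 1 := by
      by_contra hne
      have hb0 : b ≠ 0 := fun h0 => hi 0 (by rw [h0, zero_smul])
      have hbv : f b v ≠ 0 := fun h0 => hb0 (hinj b hb h0)
      have hzn : ∀ c : F, z ≠ c • a := fun c hc =>
        hzi (hc ▸ Submodule.smul_mem _ c (Submodule.subset_span (by simp)))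
      have hκ := F₀.div_mem (hcoef z hz haz hzn) (hcoef b hb hab hi)
      rw [mul_div_mul_right _ _ (sub_ne_zero.2 hne), div_div_div_cancel_right₀ hl0] at hκ
      have h1 := hinj (z - (f z v / f b v) • b) (hz.sub (hb.smul hκ))
        (by rw [Symp.sub_left hf, Symp.smul_left hf, div_mul_cancel₀ _ hbv, sub_self])
      exact hzi (by rw [sub_eq_zero.1 h1]; exact Submodule.smul_mem _ _ (Submodule.subset_span (by simp)))
    rw [ht1, one_smul] at ht
    set X := (g : Matrix ι ι F) *ᵥ v - v with hX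
    have hXp : X = (f X v / l) • a + (f a X / l) • v := hplane X fun y h1 h3 => by
      rw [hX, Symp.sub_right hf, himg g hg y h1 h3, sub_self]
    have haX : f a X = 0 := by
      rw [hX, Symp.sub_right hf]
      have := S.isometry g hg.1 a v
      rw [ht] at this
      rw [this, sub_self]
    rw [haX, zero_div, zero_smul, add_zero] at hXp
    have hgT : g = formTv f a (-(f X v / l) / l) := by
      refine gl_ext fun y => ?_
      obtain ⟨y0, h1, h3, hy⟩ := hdec y
      have hgv : (g : Matrix ι ι F) *ᵥ v = v + (f X v / l) • a := by rw [← hXp, hX]; abel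
      conv_lhs => rw [hy, mulVec_add, mulVec_add, mulVec_smul, mulVec_smul, hg.2 y0 h1 h3, ht, hgv]
      rw [Symp.formTv_mulVec hf, hf.skew y a]
      conv_rhs => arg 1; rw [hy]
      match_scalars <;> field_simp
    exact ⟨_, hL _ (S.long_of_one ha ha0 (hgT ▸ hg.1)), hgT⟩
  let P : Subgroup G :=
    { carrier := {g | ∃ x ∈ F₀, (g : GL ι F) = formTv f a x}
      one_mem' := ⟨0, F₀.zero_mem, by
        refine gl_ext fun y => ?_
        simp [Symp.formTv_mulVec hf]⟩
      mul_mem' := by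
        rintro g k ⟨x, hx, e1⟩ ⟨y, hy, e2⟩
        exact ⟨x + y, F₀.add_mem hx hy, by rw [Subgroup.coe_mul, e1, e2, Symp.formTv_mul hf]⟩
      inv_mem' := by
        rintro g ⟨x, hx, e1⟩
        exact ⟨-x, F₀.neg_mem hx, by rw [Subgroup.coe_inv, e1, Symp.formTv_inv hf]⟩ }
  have hTG : ∀ x ∈ F₀, formTv f a x ∈ G := fun x hx => ⟨S.mem a ha x hx, fun y h1 _ => by
    rw [Symp.formTv_mulVec hf, h1, mul_zero, zero_smul, add_zero]⟩
  let x₁ : G := ⟨formTv f a 1, hTG 1 F₀.one_mem⟩
  have hmemP : ∀ g : G, (∃ t : F, (g.1 : Matrix ι ι F) *ᵥ a = t • a) → g ∈ P := fun g hg => hstab g.1 g.2 hg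
  have hconj : ∀ g : G, ∀ x b' : F, x ≠ 0 → g.1 * formTv f a x * g.1⁻¹ = formTv f a b' → g ∈ P := by
    intro g x b' hx he
    rw [Symp.conj_formTv hf (S.isometry g.1 g.2.1)] at he
    exact hmemP g (hline b' x _ hx he)
  obtain ⟨p, hp⟩ := CharP.exists F
  have := hp
  have : Fact p.Prime := ⟨CharP.char_is_prime F p⟩
  have hpow : ∀ (x : F) (k : ℕ), formTv f a x ^ k = formTv f a (k * x) := by
    intro x k
    induction k with
    | zero => refine gl_ext fun y => ?_; simp [Symp.formTv_mulVec hf]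
    | succ k ih => rw [pow_succ, ih, Symp.formTv_mul hf]; congr 1; push_cast; ring
  have hPp : IsPGroup p P := by
    intro g
    refine ⟨1, Subtype.ext (Subtype.ext ?_)⟩
    obtain ⟨x, -, hx⟩ := g.2
    rw [pow_one, Subgroup.coe_pow, Subgroup.coe_pow, hx, hpow, CharP.cast_eq_zero, zero_mul]
    exact gl_ext fun y => by simp [Symp.formTv_mulVec hf]
  have htop : P = ⊤ := by
    refine eq_top_of_selfNormalizing P hPp ?_ ?_ x₁ ?_ ?_ ?_
    · rintro g ⟨x, -, e1⟩ k ⟨y, -, e2⟩
      refine Subtype.ext ?_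
      rw [Subgroup.coe_mul, Subgroup.coe_mul, e1, e2, Symp.formTv_mul hf, Symp.formTv_mul hf, add_comm]
    · intro g hg
      obtain ⟨y, -, hy⟩ := (Subgroup.mem_normalizer_iff.1 hg x₁).1 ⟨1, F₀.one_mem, rfl⟩
      exact hconj g 1 y one_ne_zero hy
    · intro k hk
      refine hconj k 1 1 one_ne_zero (mul_inv_eq_iff_eq_mul.2 ?_)
      exact congrArg Subtype.val hk
    · intro k hk
      refine hconj k (1 + 1) (1 + 1) (by rwa [one_add_one_eq_two]) (mul_inv_eq_iff_eq_mul.2 ?_)
      rw [← Symp.formTv_mul hf]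
      exact congrArg Subtype.val hk
    · intro k k' he
      refine hmemP k ?_
      have he' : formTv f a 1 * formTv f ((k.1 : Matrix ι ι F) *ᵥ a) 1 =
          formTv f ((k'.1 : Matrix ι ι F) *ᵥ a) (1 + 1) := by
        have := congrArg Subtype.val he
        simp only [Subgroup.coe_mul, Subgroup.coe_inv, x₁] at this
        rwa [Symp.formTv_mul hf, Symp.conj_formTv hf (S.isometry k.1 k.2.1),
          Symp.conj_formTv hf (S.isometry k'.1 k'.2.1)] at this
      set β := (k.1 : Matrix ι ι F) *ᵥ a with hβ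
      set γ := (k'.1 : Matrix ι ι F) *ᵥ a
      have hval : ∀ y, y + (f y β) • β + (f (y + (f y β) • β) a) • a = y + ((1 + 1) * f y γ) • γ := by
        intro y
        have := congrArg (fun t : GL ι F => (t : Matrix ι ι F) *ᵥ y) he'
        simpa only [gl_mul_mulVec, Symp.formTv_mulVec hf, one_mul] using this
      have h0 : f a β = 0 := by
        by_contra h0
        have e1 := hval β
        rw [hf.alternating, zero_smul, add_zero, add_right_inj] at e1
        have e2 := hval a
        rw [Symp.add_left hf, Symp.smul_left hf, hf.alternating, zero_add, add_assoc, add_right_inj] at e2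
        have h0' : f β a ≠ 0 := Symp.ne_zero_comm hf h0
        have e3 : f γ a = 0 := by
          have := congrArg (fun t => f t a) e1
          simp only [Symp.smul_left hf, hf.alternating, mul_zero] at this
          rcases mul_eq_zero.1 this.symm with h7 | h7
          · exfalso
            rw [h7, zero_smul] at e1
            exact ha0 ((smul_eq_zero.1 e1).resolve_left h0')
          · exact h7
        have e4 := congrArg (fun t => f t a) e2
        simp only [Symp.add_left hf, Symp.smul_left hf, hf.alternating, mul_zero, add_zero, e3] at e4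
        exact mul_ne_zero h0 h0' e4
      have hβp : β = (f β v / l) • a + (f a β / l) • v := hplane β fun y h1 h3 => by
        rw [hβ, himg k.1 k.2 y h1 h3]; exact h1
      exact ⟨f β v / l, by rwa [h0, zero_div, zero_smul, add_zero] at hβp⟩
  have hvG : formTv f v d ∈ G := ⟨h, fun y _ h3 => by
    rw [Symp.formTv_mulVec hf, h3, mul_zero, zero_smul, add_zero]⟩
  obtain ⟨x, -, hx⟩ : (⟨_, hvG⟩ : G) ∈ P := htop ▸ Subgroup.mem_top _
  have := congrArg (fun t : GL ι F => (t : Matrix ι ι F) *ᵥ a) hx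
  simp only [Symp.formTv_mulVec hf, hf.alternating, mul_zero, zero_smul, add_zero, add_eq_left] at this
  rcases smul_eq_zero.1 this with h7 | h7
  · exact mul_ne_zero hd0 hl0 h7
  · exact hl0 (by rw [hl, h7, Symp.zero_right hf])

/-- A transvection in `M` with irrational centre and rational coefficient gives a new root coefficient. -/
theorem exists_new (S : RootSetting f F₀ M) {v : ι → F} (hv : ∀ c : F, ∀ a, Rv F₀ a → v ≠ c • a) {d : F}
    (hd : d ∈ F₀) (hd0 : d ≠ 0) (h : formTv f v d ∈ M) : ∃ c ∈ longSet f F₀ M, c ∉ F₀ := by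
  by_contra hc
  push Not at hc
  by_cases hk : ∃ u, Rv F₀ u ∧ u ≠ 0 ∧ f u v = 0
  · obtain ⟨u, hu, hu0, huv⟩ := hk
    exact false_of_killed S hc hv hd hd0 h hu hu0 huv
  push Not at hk
  have hinj : ∀ u, Rv F₀ u → f u v = 0 → u = 0 := fun u hu h0 => by_contra fun hne => hk u hu hne h0
  exact false_of_injective_odd S hc hinj hd0 h

theorem mem_ratScalar_of_lines (S : RootSetting f F₀ M) (g : GL ι F)
    (h : ∀ a, Rv F₀ a → ∃ c : F, ∃ b, Rv F₀ b ∧ (g : Matrix ι ι F) *ᵥ a = c • b) : g ∈ ratScalar F₀ ι := by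
  have := S.two_lt
  obtain ⟨i₀⟩ : Nonempty ι := Fintype.card_pos_iff.1 (by omega)
  obtain ⟨c, r₀, hr₀, he₀⟩ := h _ (Rv.single (F₀ := F₀) i₀)
  have hne : ∀ x : ι → F, x ≠ 0 → (g : Matrix ι ι F) *ᵥ x ≠ 0 := fun x hx h0 =>
    hx (gl_mulVec_injective g (show (g : Matrix ι ι F) *ᵥ x = (g : Matrix ι ι F) *ᵥ 0 by rw [h0, mulVec_zero]))
  have hc0 : c ≠ 0 := fun h0 => hne (Pi.single i₀ 1) (by simp) (by rw [he₀, h0, zero_smul])
  have hr₀0 : r₀ ≠ 0 := fun h0 => hne (Pi.single i₀ 1) (by simp) (by rw [he₀, h0, smul_zero])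
  have hcol : ∀ a i, c⁻¹ * (g : Matrix ι ι F) a i ∈ F₀ := by
    intro a i
    suffices H : Rv F₀ (c⁻¹ • ((g : Matrix ι ι F) *ᵥ Pi.single i 1)) by
      simpa using H a
    rcases eq_or_ne i i₀ with rfl | hi
    · rwa [he₀, smul_smul, inv_mul_cancel₀ hc0, one_smul]
    obtain ⟨d, r, hr, hei⟩ := h _ (Rv.single (F₀ := F₀) i)
    obtain ⟨e, s, hs, hes⟩ := h _ ((Rv.single (F₀ := F₀) i₀).add (Rv.single i))
    rw [mulVec_add, he₀, hei] at hes
    have hd0 : d ≠ 0 := fun h0 => hne (Pi.single i 1) (by simp) (by rw [hei, h0, zero_smul])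
    have hr0 : r ≠ 0 := fun h0 => hne (Pi.single i 1) (by simp) (by rw [hei, h0, smul_zero])
    have hind : ∀ k : F, r₀ ≠ k • r := by
      intro k hk
      have h1 : (Pi.single i₀ (1 : F) : ι → F) = (c * k / d) • Pi.single i 1 := gl_mulVec_injective g
        (show (g : Matrix ι ι F) *ᵥ Pi.single i₀ 1 = (g : Matrix ι ι F) *ᵥ ((c * k / d) • Pi.single i 1) by
          rw [mulVec_smul, he₀, hei, hk, smul_smul, smul_smul, div_mul_cancel₀ _ hd0])
      simpa [hi] using congrFun h1 i₀
    have hind' : ∀ k : F, r ≠ k • r₀ := by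
      intro k hk
      have hk0 : k ≠ 0 := fun h0 => hr0 (by rw [hk, h0, zero_smul])
      exact hind k⁻¹ (by rw [hk, smul_smul, inv_mul_cancel₀ hk0, one_smul])
    obtain ⟨z, hz, hrz, hr₀z⟩ := S.exists_orth hr hr0 hind
    obtain ⟨z', hz', hr₀z', hrz'⟩ := S.exists_orth hr₀ hr₀0 hind'
    have e1 := congrArg (fun x => f x z) hes
    simp only [Symp.add_left S.symp, Symp.smul_left S.symp, hrz, mul_zero, add_zero] at e1
    have e2 := congrArg (fun x => f x z') hes
    simp only [Symp.add_left S.symp, Symp.smul_left S.symp, hr₀z', mul_zero, zero_add] at e2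
    have he0 : e ≠ 0 := fun h0 => by
      rw [h0, zero_mul] at e1
      exact mul_ne_zero hc0 hr₀z e1
    have h1 : c / e = f s z / f r₀ z := by rw [div_eq_div_iff he0 hr₀z]; linear_combination e1
    have h2 : d / e = f s z' / f r z' := by rw [div_eq_div_iff he0 hrz']; linear_combination e2
    have h3 : c⁻¹ * d ∈ F₀ := by
      have := F₀.div_mem (h2 ▸ F₀.div_mem (S.rat _ _ hs hz') (S.rat _ _ hr hz'))
        (h1 ▸ F₀.div_mem (S.rat _ _ hs hz) (S.rat _ _ hr₀ hz))
      rwa [div_div_div_cancel_right₀ he0, div_eq_inv_mul] at this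
    rw [hei, smul_smul]
    exact hr.smul h3
  let W : Matrix ι ι F₀ := fun a i => ⟨_, hcol a i⟩
  have hW : W.map (F₀.subtype : F₀ →+* F) = c⁻¹ • (g : Matrix ι ι F) := rfl
  have hdet : W.det ≠ 0 := by
    intro h0
    have h1 : (c⁻¹ • (g : Matrix ι ι F)).det = 0 := by
      rw [← hW, ← RingHom.mapMatrix_apply, ← RingHom.map_det, h0, map_zero]
    rw [det_smul] at h1
    exact mul_ne_zero (pow_ne_zero _ (inv_ne_zero hc0))
      ((Matrix.isUnit_iff_isUnit_det _).1 g.isUnit).ne_zero h1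
  let z : GL ι F :=
    Units.map (Matrix.scalar ι : F →+* Matrix ι ι F).toMonoidHom (Units.mk0 c⁻¹ (inv_ne_zero hc0))
  have hz : z ∈ Cfsg.Geo.scalars ι F := ⟨_, rfl⟩
  have hgz : g = Matrix.GeneralLinearGroup.map (F₀.subtype : F₀ →+* F)
      (Matrix.GeneralLinearGroup.mkOfDetNeZero W hdet) * z⁻¹ := by
    rw [eq_mul_inv_iff_mul_eq]
    apply Units.ext
    ext a i
    simp [z, W, Matrix.mul_diagonal, mul_comm]
    rfl
  rw [hgz]
  exact Subgroup.mul_mem_sup ⟨_, rfl⟩ ((Cfsg.Geo.scalars ι F).inv_mem hz)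

theorem maximal_rational (hf : Cfsg.Geo.IsSymplecticForm f) (h4 : 2 < Fintype.card ι) (h2 : (2 : F) ≠ 0)
    (hrat : ∀ u v, Rv F₀ u → Rv F₀ v → f u v ∈ F₀) {r : ℕ} (hr : r.Prime)
    (hcard : Fintype.card F = Nat.card F₀ ^ r) {K : Subgroup (GL ι F)}
    (hK : ∀ g, g ∈ K ↔ Symp.IsIsometry f g) : Cfsg.Geo.IsMaximalIn K (ratScalar F₀ ι ⊓ K) := by
  have SK : RootSetting f F₀ K := ⟨hf, h4, h2, hrat, fun g hg => (hK g).1 hg,
    fun a _ c _ => (hK _).2 (Symp.formTv_isometry hf a c)⟩
  have hT : ∀ a, Rv F₀ a → ∀ c ∈ F₀, formTv f a c ∈ ratScalar F₀ ι ⊓ K := fun a ha c hc =>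
    ⟨mem_ratScalar_of_lines SK _ fun x hx =>
      ⟨1, _, (SK.rat_formTv ha hc).2 x hx, (one_smul F _).symm⟩, (hK _).2 (Symp.formTv_isometry hf a c)⟩
  obtain ⟨lam, hlam⟩ : ∃ x : F, x ∉ F₀ := by
    by_contra h
    push Not at h
    have h1 : Nat.card F₀ = Nat.card F := Nat.card_congr (Equiv.subtypeUnivEquiv h)
    rw [h1, ← Nat.card_eq_fintype_card] at hcard
    have := Nat.pow_right_injective (Finite.one_lt_card (α := F))
      (show Nat.card F ^ 1 = Nat.card F ^ r by rw [pow_one]; exact hcard)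
    exact hr.one_lt.ne this
  refine ⟨lt_of_le_of_ne inf_le_right fun heq => ?_, fun M hle hMle => ?_⟩
  · obtain ⟨k⟩ : Nonempty ι := Fintype.card_pos_iff.1 (by omega)
    obtain ⟨i, hi⟩ := exists_single hf (x := (Pi.single k (1 : F) : ι → F)) (by simp)
    have hik : i ≠ k := by
      rintro rfl
      exact hi (hf.alternating _)
    have hmem : formTv f (Pi.single i 1) lam ∈ K := (hK _).2 (Symp.formTv_isometry hf _ _)
    rw [← heq] at hmem
    obtain ⟨c, hc, hcrat⟩ := exists_rat_scalar hmem.1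
    have hval : ∀ j, (formTv f (Pi.single i 1) lam : Matrix ι ι F) j k =
        (Pi.single k (1 : F) : ι → F) j +
          lam * f (Pi.single k 1) (Pi.single i 1) * (Pi.single i (1 : F) : ι → F) j := by
      intro j
      have := congrFun (Symp.formTv_mulVec hf (Pi.single i 1) lam (Pi.single k 1)) j
      simpa using this
    have e1 := hcrat k k
    have e2 := hcrat i k
    rw [hval, Pi.single_eq_same, Pi.single_eq_of_ne hik.symm, mul_zero, add_zero, mul_one] at e1
    rw [hval, Pi.single_eq_same, Pi.single_eq_of_ne hik, zero_add, mul_one] at e2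
    have e3 := F₀.div_mem (F₀.div_mem e2 e1) (hrat _ _ (Rv.single k) (Rv.single i))
    rw [mul_div_cancel_left₀ _ hc, mul_div_cancel_right₀ _ hi] at e3
    exact hlam e3
  by_cases hall : M ≤ ratScalar F₀ ι
  · exact Or.inl (le_antisymm (le_inf hall hMle) hle)
  right
  refine le_antisymm hMle ?_
  have SM : RootSetting f F₀ M := ⟨hf, h4, h2, hrat, fun g hg => (hK g).1 (hMle hg), fun a ha c hc => hle (hT a ha c hc)⟩
  obtain ⟨g, hgM, hg⟩ := SetLike.not_le_iff_exists.1 hall
  obtain ⟨a, ha, hirr⟩ : ∃ a, Rv F₀ a ∧ ∀ c : F, ∀ b, Rv F₀ b → (g : Matrix ι ι F) *ᵥ a ≠ c • b := by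
    by_contra hno
    push Not at hno
    exact hg (mem_ratScalar_of_lines SM g hno)
  have hv := M.mul_mem (M.mul_mem hgM (SM.mem a ha 1 F₀.one_mem)) (M.inv_mem hgM)
  rw [Symp.conj_formTv hf (SM.isometry g hgM)] at hv
  obtain ⟨c, hc, hc'⟩ := exists_new SM hirr F₀.one_mem one_ne_zero hv
  have hfull := long_eq_univ SM hr hcard hc hc'
  exact fun k hk => Symp.isometry_mem_of_formTv_mem hf (mem_of_full SM hfull) ((hK k).1 hk)

end CfsgLib.Sp4Odd
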