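import Cfsg.Agent.Lib.Sp4Odd.RootSetting
import Cfsg.Agent.Lib.GeomClasses.SympRing

/-!
The root coefficients form a subfield, in odd characteristic.
-/

set_option autoImplicit false
set_option linter.unusedSectionVars false

namespace CfsgLib.Sp4Odd

open Matrix CfsgLib.GeomClasses CfsgLib.GeomClasses.SympRoot

variable {ι : Type} [Fintype ι] [DecidableEq ι] {F : Type*} [Field F] [Fintype F]
  {f : (ι → F) → (ι → F) → F} {F₀ : Subfield F} {M : Subgroup (GL ι F)}

/-- An orthogonal independent rational pair through a given rational vector. -/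
theorem RootSetting.exists_second (S : RootSetting f F₀ M) {a : ι → F} (ha : Rv F₀ a) (ha0 : a ≠ 0) :
    ∃ b, Rv F₀ b ∧ f a b = 0 ∧ ∀ c : F, b ≠ c • a := by
  classical
  obtain ⟨p, hp, hap⟩ := S.partner ha ha0
  by_contra hc
  push Not at hc
  have hall : ∀ i, (Pi.single i (1 : F) : ι → F) ∈
      Submodule.span F ((({a, p} : Finset (ι → F))) : Set (ι → F)) := by
    intro i
    obtain ⟨c, hc'⟩ := hc (Pi.single i (1 : F) - f a (Pi.single i 1) • p)
      ((Rv.single i).sub (hp.smul (S.rat _ _ ha (Rv.single i))))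
      (by rw [Symp.sub_right S.symp, Symp.smul_right S.symp, hap, mul_one, sub_self])
    rw [show (Pi.single i (1 : F) : ι → F) = c • a + f a (Pi.single i 1) • p from sub_eq_iff_eq_add.1 hc']
    exact Submodule.add_mem _ (Submodule.smul_mem _ _ (Submodule.subset_span (by simp)))
      (Submodule.smul_mem _ _ (Submodule.subset_span (by simp)))
  have htop : Submodule.span F ((({a, p} : Finset (ι → F))) : Set (ι → F)) = ⊤ := by
    rw [eq_top_iff]
    intro x _
    rw [pi_eq_sum_univ' x]
    exact Submodule.sum_mem _ fun i _ => Submodule.smul_mem _ _ (hall i)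
  have h1 := finrank_span_finset_le_card (R := F) ({a, p} : Finset (ι → F))
  rw [Set.finrank, htop, finrank_top, Module.finrank_fintype_fun_eq_card] at h1
  have h2 : Finset.card ({a, p} : Finset (ι → F)) ≤ 2 := Finset.card_le_two
  have := S.two_lt
  omega

/-- A rational orthogonal independent pair. -/
theorem RootSetting.exists_pair (S : RootSetting f F₀ M) :
    ∃ a b, Rv F₀ a ∧ Rv F₀ b ∧ a ≠ 0 ∧ f a b = 0 ∧ ∀ c : F, b ≠ c • a := by
  have := S.two_lt
  obtain ⟨i⟩ : Nonempty ι := Fintype.card_pos_iff.1 (by omega)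
  have h0 : (Pi.single i (1 : F) : ι → F) ≠ 0 := by simp
  obtain ⟨b, hb, hab, hi⟩ := S.exists_second (Rv.single i) h0
  exact ⟨_, b, Rv.single i, hb, h0, hab, hi⟩

theorem mem_longSet_of_mem (S : RootSetting f F₀ M) {c : F} (hc : c ∈ F₀) : c ∈ longSet f F₀ M :=
  fun a ha => S.mem a ha c hc

theorem long_add (S : RootSetting f F₀ M) {c d : F} (hc : c ∈ longSet f F₀ M) (hd : d ∈ longSet f F₀ M) :
    c + d ∈ longSet f F₀ M := fun a ha => by
  rw [← Symp.formTv_mul S.symp]; exact M.mul_mem (hc a ha) (hd a ha)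

theorem long_neg (S : RootSetting f F₀ M) {c : F} (hc : c ∈ longSet f F₀ M) : -c ∈ longSet f F₀ M := fun a ha => by
  rw [← Symp.formTv_inv S.symp]; exact M.inv_mem (hc a ha)

theorem long_le_short (S : RootSetting f F₀ M) {c : F} (hc : c ∈ longSet f F₀ M) : c ∈ shortSet f F₀ M := by
  obtain ⟨a, b, ha, hb, ha0, hab, hi⟩ := S.exists_pair
  have h1 := hc (b + (1 : F) • a) (hb.add (by rwa [one_smul]))
  rw [formTv_add_smul S.symp hab, mul_one, mul_one] at h1
  have h2 := M.mul_mem (M.inv_mem (hc b hb)) h1
  rw [inv_mul_cancel_left] at h2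
  exact (S.split ha hb ha0 hab hi h2).2

theorem short_step (S : RootSetting f F₀ M) {μ d : F} (hμ : μ ∈ shortSet f F₀ M) (hd : d ∈ longSet f F₀ M) :
    d * μ * μ ∈ longSet f F₀ M ∧ d * μ ∈ shortSet f F₀ M := by
  obtain ⟨a, b, ha, hb, ha0, hab, hi⟩ := S.exists_pair
  obtain ⟨p₁, q, hp₁, -, hap₁, hbp₁, -, -⟩ := S.partners ha hb ha0 hab hi
  set p := -p₁ with hp'
  have hp : Rv F₀ p := fun i => F₀.neg_mem (hp₁ i)
  have hpa : f p a = 1 := by rw [hp', Symp.neg_left S.symp, S.symp.skew, hap₁, neg_neg]
  have hpb : f p b = 0 := by rw [hp', Symp.neg_left S.symp, S.symp.skew, hbp₁, neg_zero, neg_zero]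
  have hbp : f b p = 0 := by rw [S.symp.skew, hpb, neg_zero]
  have hh := hμ a b ha hb ha0 hab hi
  have hmove : (root f a (μ • b) 0 : Matrix ι ι F) *ᵥ p = p + μ • b := by
    rw [root_mulVec S.symp (by rw [Symp.smul_right S.symp, hab, mul_zero]), hpa, Symp.smul_right S.symp, hpb]
    simp
  have h1 := M.mul_mem (M.mul_mem hh (hd p hp)) (M.inv_mem hh)
  rw [Symp.conj_formTv S.symp (root_isometry S.symp _ _ _), hmove, formTv_add_smul S.symp hbp] at h1
  have h2 := M.mul_mem (M.inv_mem (hd p hp)) h1
  rw [inv_mul_cancel_left] at h2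
  refine S.split hb hp (fun h0 => hi 0 (by rw [h0, zero_smul])) hbp (fun c hc => ?_) h2
  have := congrArg (fun x => f x a) hc
  simp only [hpa, Symp.smul_left S.symp, S.symp.skew b a, hab, neg_zero, mul_zero] at this
  exact one_ne_zero this

theorem short_le_long (S : RootSetting f F₀ M) {μ : F} (hμ : μ ∈ shortSet f F₀ M) : μ ∈ longSet f F₀ M := by
  have h1 : (1 : F) ∈ longSet f F₀ M := mem_longSet_of_mem S F₀.one_mem
  have hsq : ∀ x ∈ shortSet f F₀ M, x * x ∈ longSet f F₀ M := fun x hx => by
    simpa using (short_step S hx h1).1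
  by_cases h2 : (2 : F) = 0
  · haveI : Finite (shortSet f F₀ M) := Subtype.finite
    let g : shortSet f F₀ M → shortSet f F₀ M := fun x => ⟨x.1 * x.1, long_le_short S (hsq x.1 x.2)⟩
    have hinj : Function.Injective g := fun x y h => by
      have h' : x.1 * x.1 = y.1 * y.1 := congrArg Subtype.val h
      rcases mul_self_eq_mul_self_iff.1 h' with e | e
      · exact Subtype.ext e
      · exact Subtype.ext (by rw [e]; linear_combination (-y.1) * h2)
    obtain ⟨x, hx⟩ := Finite.surjective_of_injective hinj ⟨μ, hμ⟩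
    have := hsq x.1 x.2
    rwa [show x.1 * x.1 = μ from congrArg Subtype.val hx] at this
  · set ν := (2 : F)⁻¹ * μ with hν
    have hν' : ν ∈ shortSet f F₀ M :=
      (short_step S hμ (mem_longSet_of_mem S (F₀.inv_mem (ofNat_mem F₀ 2)))).2
    have hone : (1 : F) ∈ shortSet f F₀ M := long_le_short S h1
    have hadd : ν + 1 ∈ shortSet f F₀ M := by
      intro u w hu hw hu0 huw hi
      have h3 := M.mul_mem (hν' u w hu hw hu0 huw hi) (hone u w hu hw hu0 huw hi)
      rwa [root_mul S.symp (by rw [Symp.smul_right S.symp, huw, mul_zero])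
        (by rw [Symp.smul_right S.symp, huw, mul_zero]), ← add_smul, Symp.smul_left S.symp,
        Symp.smul_right S.symp, S.symp.alternating, mul_zero, mul_zero, add_zero, add_zero] at h3
    have h3 := long_add S (long_add S (hsq _ hadd) (long_neg S (hsq _ hν'))) (long_neg S h1)
    rwa [show (ν + 1) * (ν + 1) + -(ν * ν) + -1 = μ by rw [hν]; field_simp; ring] at h3

/-- The root coefficients as a subfield. -/
def coeffField (S : RootSetting f F₀ M) : Subfield F where
  carrier := longSet f F₀ M
  zero_mem' := mem_longSet_of_mem S F₀.zero_mem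
  one_mem' := mem_longSet_of_mem S F₀.one_mem
  add_mem' := long_add S
  neg_mem' := long_neg S
  mul_mem' := fun {a b} ha hb => short_le_long S (short_step S (long_le_short S hb) ha).2
  inv_mem' := fun x hx => by
    rcases eq_or_ne x 0 with rfl | hx0
    · simpa using mem_longSet_of_mem S F₀.zero_mem
    have hpow : ∀ k, x ^ k ∈ longSet f F₀ M := by
      intro k
      induction k with
      | zero => simpa using mem_longSet_of_mem S F₀.one_mem
      | succ k ih => rw [pow_succ]; exact short_le_long S (short_step S (long_le_short S hx) ih).2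
    have h2 : 1 < Fintype.card F := Fintype.one_lt_card
    have h3 : x * x ^ (Fintype.card F - 2) = 1 := by
      rw [← pow_succ', show Fintype.card F - 2 + 1 = Fintype.card F - 1 by omega]
      exact FiniteField.pow_card_sub_one_eq_one x hx0
    rw [inv_eq_of_mul_eq_one_right h3]
    exact hpow _

theorem mem_coeffField (S : RootSetting f F₀ M) {c : F} : c ∈ coeffField S ↔ c ∈ longSet f F₀ M := Iff.rfl

theorem long_eq_univ (S : RootSetting f F₀ M) {r : ℕ} (hr : r.Prime) (hcard : Fintype.card F = Nat.card F₀ ^ r)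
    {c : F} (hc : c ∈ longSet f F₀ M) (hc' : c ∉ F₀) (x : F) : x ∈ longSet f F₀ M := by
  have h : F₀ < coeffField S := lt_of_le_of_ne (fun y hy => mem_longSet_of_mem S hy) fun he => hc' (he ▸ hc)
  have := Rational.subfield_eq_top_of_lt hr hcard h
  exact (mem_coeffField S).1 (this ▸ Subfield.mem_top x)

/-- With all coefficients present, every transvection is present. -/
theorem mem_of_full (S : RootSetting f F₀ M) (hfull : ∀ x : F, x ∈ longSet f F₀ M) (v : ι → F) (c : F) :
    formTv f v c ∈ M := by
  classical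
  have hrat : ∀ y, Rv F₀ y → y ∈ Symp.centres f M := fun y hy c => hfull c y hy
  have hstep : ∀ x y, x ∈ Symp.centres f M → Rv F₀ y → ∀ a : F, x + a • y ∈ Symp.centres f M := by
    intro x y hx hy a
    by_cases hy0 : y = 0
    · simpa [hy0] using hx
    by_cases hxy : f x y = 0
    · by_cases hline : ∃ k : F, x = k • y
      · obtain ⟨k, rfl⟩ := hline
        rw [← add_smul]
        exact Symp.centres_smul S.symp (hrat y hy) _
      push Not at hline
      obtain ⟨w, hw, hyw, hxw⟩ := S.exists_orth hy hy0 hline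
      have hh := long_le_short S (hfull (a / f x w)) y w hy hw hy0 hyw
        (fun k hk => hxw (by rw [hk, Symp.smul_right S.symp, hxy, mul_zero]))
      have h1 := Symp.centres_invariant S.symp hh (S.isometry _ hh) hx
      rwa [root_mulVec S.symp (by rw [Symp.smul_right S.symp, hyw, mul_zero]), hxy, zero_smul, add_zero,
        Symp.smul_right S.symp, div_mul_cancel₀ _ hxw, mul_zero, zero_smul, add_zero] at h1
    · exact Symp.centres_step S.symp hx (hrat y hy) hxy a
  suffices H : ∀ s : Finset ι, ∑ i ∈ s, v i • (Pi.single i (1 : F) : ι → F) ∈ Symp.centres f M by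
    have := H Finset.univ
    rw [← pi_eq_sum_univ' v] at this
    exact this c
  intro s
  induction s using Finset.induction_on with
  | empty => exact fun c => by rw [Finset.sum_empty, formTv_zero S.symp]; exact M.one_mem
  | insert i t hi ih => rw [Finset.sum_insert hi, add_comm]; exact hstep _ _ ih (Rv.single i) _

end CfsgLib.Sp4Odd
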